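import Groth.Agent.Lib.Lead.Cech.Coind
import Mathlib.CategoryTheory.Sites.Sheafification
import Mathlib.CategoryTheory.Sites.Limits
import Mathlib.CategoryTheory.Sites.Abelian
import Mathlib.CategoryTheory.Preadditive.Injective.Preserves
import Mathlib.Algebra.Homology.HomologicalComplexAbelian
import Mathlib.Algebra.Homology.HomologySequence
import Mathlib.Algebra.Category.Grp.Abelian

/-! # Čech complexes of sheaves: injective sheaves are Čech-acyclic, short exact sequences. -/

universe u
open CategoryTheory Limits Opposite

namespace Groth.Agent.LD.CH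

variable {C : Type u} [Category.{u} C] (J : GrothendieckTopology C)
  [HasSheafify J AddCommGrpCat.{u}]

/-- the underlying presheaf of an injective sheaf is injective. -/
instance injective_obj (I : Sheaf J AddCommGrpCat.{u}) [Injective I] : Injective I.obj :=
  Injective.injective_of_adjoint (sheafificationAdjunction J AddCommGrpCat.{u}) I

variable {J}

lemma app_injective_of_mono {F G : Sheaf J AddCommGrpCat.{u}} (f : F ⟶ G) [Mono f] (W : C) :
    Function.Injective (f.hom.app (op W)) := by
  haveI : Mono ((sheafToPresheaf J AddCommGrpCat.{u}).map f) := inferInstance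
  haveI : Mono (f.hom.app (op W)) :=
    (NatTrans.mono_iff_mono_app ((sheafToPresheaf J AddCommGrpCat.{u}).map f)).1 inferInstance _
  exact (AddCommGrpCat.mono_iff_injective _).1 inferInstance

lemma app_exact {S : ShortComplex (Sheaf J AddCommGrpCat.{u})} (hS : S.ShortExact) (W : C)
    (y : S.X₂.obj.obj (op W)) (hy : S.g.hom.app (op W) y = 0) :
    ∃ x : S.X₁.obj.obj (op W), S.f.hom.app (op W) x = y := by
  have h := hS.exact.map_of_mono_of_preservesKernel
    (sheafToPresheaf J AddCommGrpCat.{u} ⋙ (evaluation _ _).obj (op W)) hS.mono_f inferInstance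
  rw [ShortComplex.ab_exact_iff] at h
  exact h y hy

variable [HasFiniteProducts C] {ι : Type u} (U : ι → C)

/-- injective sheaves are Čech-acyclic. -/
theorem isZero_cech_of_injective (I : Sheaf J AddCommGrpCat.{u}) [Injective I] (n : ℕ) :
    IsZero ((K U I.obj).homology (n+1)) :=
  isZero_homology_of_injective U I.obj n

variable (J) in
/-- the Čech complex functor on sheaves. -/
noncomputable abbrev Φ : Sheaf J AddCommGrpCat.{u} ⥤ CochainComplex AddCommGrpCat.{u} ℕ :=
  sheafToPresheaf J _ ⋙ cechComplexFunctor U

/-- a short exact sequence of sheaves which is exact on sections over all finite products of the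
members of the family induces a short exact sequence of Čech complexes. -/
theorem shortExact_cech {S : ShortComplex (Sheaf J AddCommGrpCat.{u})} (hS : S.ShortExact)
    (hsurj : ∀ (n : ℕ) (a : Fin (n+1) → ι),
      Function.Surjective (S.g.hom.app (op (∏ᶜ (U ∘ a))))) :
    (S.map (Φ J U)).ShortExact := by
  haveI := hS.mono_f
  apply HomologicalComplex.shortExact_of_degreewise_shortExact
  intro n
  refine ShortComplex.ShortExact.mk' ?_ ?_ ?_
  · rw [ShortComplex.ab_exact_iff]
    intro y hy
    have h1 : ∀ a, ∃ x : S.X₁.obj.obj (op (∏ᶜ (U ∘ a))),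
        S.f.hom.app _ x = coch U S.X₂.obj n y a := by
      intro a
      apply app_exact hS
      have := coch_map U S.g.hom n y a
      rw [← this]
      have hy' : ((cechComplexFunctor U).map S.g.hom).f n y = 0 := hy
      rw [hy', map_zero]
      rfl
    choose x hx using h1
    refine ⟨(coch U S.X₁.obj n).symm x, ?_⟩
    apply coch_ext
    intro a
    have := coch_map U S.f.hom n ((coch U S.X₁.obj n).symm x) a
    rw [AddEquiv.apply_symm_apply] at this
    exact this.trans (hx a)
  · rw [AddCommGrpCat.mono_iff_injective]
    intro x x' h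
    apply coch_ext
    intro a
    apply app_injective_of_mono S.f
    have h1 := coch_map U S.f.hom n x a
    have h2 := coch_map U S.f.hom n x' a
    exact h1.symm.trans ((congrArg (fun z => coch U S.X₂.obj n z a) h).trans h2)
  · rw [AddCommGrpCat.epi_iff_surjective]
    intro z
    have h1 : ∀ a, ∃ y : S.X₂.obj.obj (op (∏ᶜ (U ∘ a))),
        S.g.hom.app _ y = coch U S.X₃.obj n z a := fun a => hsurj n a _
    choose y hy using h1
    refine ⟨(coch U S.X₂.obj n).symm y, ?_⟩
    apply coch_ext
    intro a
    have := coch_map U S.g.hom n ((coch U S.X₂.obj n).symm y) a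
    rw [AddEquiv.apply_symm_apply] at this
    exact this.trans (hy a)

/-- left exactness of the Čech complex: injectivity. -/
lemma cechMap_injective {F G : Sheaf J AddCommGrpCat.{u}} (f : F ⟶ G) [Mono f] (n : ℕ) :
    Function.Injective (((cechComplexFunctor U).map f.hom).f n) := by
  intro x x' h
  apply coch_ext
  intro a
  apply app_injective_of_mono f
  have h1 := coch_map U f.hom n x a
  have h2 := coch_map U f.hom n x' a
  exact h1.symm.trans ((congrArg (fun z => coch U G.obj n z a) h).trans h2)

/-- left exactness of the Čech complex: exactness in the middle. -/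
lemma cechMap_exact {S : ShortComplex (Sheaf J AddCommGrpCat.{u})} (hS : S.ShortExact) (n : ℕ)
    (y : (K U S.X₂.obj).X n) (hy : ((cechComplexFunctor U).map S.g.hom).f n y = 0) :
    ∃ x : (K U S.X₁.obj).X n, ((cechComplexFunctor U).map S.f.hom).f n x = y := by
  have h1 : ∀ a, ∃ x : S.X₁.obj.obj (op (∏ᶜ (U ∘ a))),
      S.f.hom.app _ x = coch U S.X₂.obj n y a := by
    intro a
    apply app_exact hS
    have := coch_map U S.g.hom n y a
    rw [← this, hy, map_zero]
    rfl
  choose x hx using h1
  refine ⟨(coch U S.X₁.obj n).symm x, ?_⟩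
  apply coch_ext
  intro a
  have := coch_map U S.f.hom n ((coch U S.X₁.obj n).symm x) a
  rw [AddEquiv.apply_symm_apply] at this
  exact this.trans (hx a)

end Groth.Agent.LD.CH
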