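import Groth.Agent.Lib.Lead.Cech.Leray
import Groth.Agent.Lib.Lead.SC.Affine
import Groth.Agent.Lib.Lead.SC.Global

/-! # Čech cohomology of quasi-coherent modules on schemes. -/

universe u
open CategoryTheory Limits Opposite TopologicalSpace Abelian AlgebraicGeometry

namespace Groth.Agent.LD.CH

variable {X : Scheme.{u}} {ι : Type u} (U : ι → X.Opens)

/-- Leray's theorem for quasi-coherent modules and covers with affine finite intersections. -/
theorem leray_scheme (haff : ∀ (n : ℕ) (a : Fin (n+1) → ι), IsAffineOpen (⨅ k, U (a k)))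
    (M : X.Modules) [M.IsQuasicoherent] (p : ℕ) :
    Nonempty ((((cechComplexFunctor (A := AddCommGrpCat.{u}) U).obj M.presheaf).homology p :
      AddCommGrpCat.{u}) ≃+ Ext (SC.ZU (SC.JX X) (iSup U)) (Coh.toAb M) p) := by
  have h' : ∀ (n : ℕ) (a : Fin (n+1) → ι) (q : ℕ),
      Subsingleton (Ext (SC.ZU (SC.JX X) (∏ᶜ (U ∘ a))) (Coh.toAb M) (q+1)) := by
    intro n a q
    apply SC.subsingleton_ext_of_isAffineOpen M q
    rw [prod_eq_iInf (X := X.toTopCat) U a]
    exact haff n a
  exact leray (X := X.toTopCat) U (Coh.toAb M) h' p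

/-- Čech cohomology of a quasi-coherent module vanishes in positive degrees for a family of opens
with affine finite intersections and affine union. -/
theorem isZero_cech_of_affine (haff : ∀ (n : ℕ) (a : Fin (n+1) → ι), IsAffineOpen (⨅ k, U (a k)))
    (hW : IsAffineOpen (iSup U)) (M : X.Modules) [M.IsQuasicoherent] (p : ℕ) :
    IsZero (((cechComplexFunctor (A := AddCommGrpCat.{u}) U).obj M.presheaf).homology (p+1)) := by
  obtain ⟨e⟩ := leray_scheme U haff M (p+1)
  haveI := SC.subsingleton_ext_of_isAffineOpen M p _ hW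
  haveI : Subsingleton (((cechComplexFunctor (A := AddCommGrpCat.{u}) U).obj M.presheaf).homology
      (p+1) : AddCommGrpCat.{u}) := e.toEquiv.subsingleton
  exact AddCommGrpCat.isZero_of_subsingleton _

end Groth.Agent.LD.CH
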