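import Mathlib.Algebra.Homology.ShortComplex.HomologicalComplex
import Mathlib.Algebra.Homology.ShortComplex.Ab
import Mathlib.Algebra.Category.Grp.Abelian

/-! # Degree-zero homology of a cochain complex of abelian groups is the kernel of `d⁰`. -/

universe u
open CategoryTheory Limits

namespace Groth.Agent.LD.CH

variable (K L : CochainComplex AddCommGrpCat.{u} ℕ)

/-- the kernel of `d⁰` as an object. -/
abbrev ker0 : AddCommGrpCat.{u} := AddCommGrpCat.of (K.d 0 1).hom.ker

/-- inclusion of the kernel. -/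
abbrev ker0ι : ker0 K ⟶ K.X 0 := AddCommGrpCat.ofHom (K.d 0 1).hom.ker.subtype

lemma ker0ι_d : ker0ι K ≫ K.d 0 1 = 0 := by
  ext x
  exact x.2

/-- cycles in degree zero are the kernel of `d⁰`. -/
noncomputable def cyc0Iso : K.cycles 0 ≅ ker0 K where
  hom := AddCommGrpCat.ofHom (AddMonoidHom.codRestrict (K.iCycles 0).hom _ (fun z => by
    rw [AddMonoidHom.mem_ker]
    have h : K.iCycles 0 ≫ K.d 0 1 = 0 := K.iCycles_d 0 1
    exact ConcreteCategory.congr_hom h z))
  inv := K.liftCycles (ker0ι K) 1 (by simp) (ker0ι_d K)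
  hom_inv_id := by
    rw [← cancel_mono (K.iCycles 0), Category.assoc, HomologicalComplex.liftCycles_i,
      Category.id_comp]
    rfl
  inv_hom_id := by
    ext x
    have h := K.liftCycles_i (ker0ι K) 1 (by simp) (ker0ι_d K)
    exact ConcreteCategory.congr_hom h x

/-- `H⁰` is the kernel of `d⁰`. -/
noncomputable def h0Iso : K.homology 0 ≅ ker0 K :=
  (K.isoHomologyπ 0 0 (by simp) (K.shape 0 0 (by simp))).symm ≪≫ cyc0Iso K

variable {K L}

/-- the induced map on kernels. -/
def ker0Map (f : K ⟶ L) : ker0 K ⟶ ker0 L :=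
  AddCommGrpCat.ofHom (AddMonoidHom.codRestrict ((f.f 0).hom.comp (K.d 0 1).hom.ker.subtype) _
    (fun z => by
      rw [AddMonoidHom.mem_ker]
      have h : f.f 0 ≫ L.d 0 1 = K.d 0 1 ≫ f.f 1 := f.comm 0 1
      have h2 := ConcreteCategory.congr_hom h z.1
      have h3 : K.d 0 1 z.1 = 0 := z.2
      change L.d 0 1 (f.f 0 z.1) = 0
      rw [ConcreteCategory.comp_apply, ConcreteCategory.comp_apply, h3, map_zero] at h2
      exact h2))

lemma h0Iso_naturality (f : K ⟶ L) :
    HomologicalComplex.homologyMap f 0 ≫ (h0Iso L).hom = (h0Iso K).hom ≫ ker0Map f := by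
  haveI : IsIso (K.homologyπ 0) := K.isIso_homologyπ 0 0 (by simp) (K.shape 0 0 (by simp))
  rw [← cancel_epi (K.homologyπ 0)]
  have hK : K.homologyπ 0 ≫ (h0Iso K).hom = (cyc0Iso K).hom := by
    simp [h0Iso]
  have hL : L.homologyπ 0 ≫ (h0Iso L).hom = (cyc0Iso L).hom := by
    simp [h0Iso]
  rw [HomologicalComplex.homologyπ_naturality_assoc, hL, reassoc_of% hK]
  ext z
  have h := HomologicalComplex.cyclesMap_i f 0
  exact ConcreteCategory.congr_hom h z

end Groth.Agent.LD.CH
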