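import Groth.Agent.Lib.Lead.Cech.Sheaf
import Groth.Agent.Lib.Lead.Cech.H0
import Mathlib.Topology.Sheaves.SheafCondition.UniqueGluing
import Mathlib.CategoryTheory.Limits.Lattice
import Mathlib.Topology.Sheaves.Sheaf

/-! # Degree-zero Čech cohomology of a sheaf on a topological space. -/

universe u
open CategoryTheory Limits Opposite TopologicalSpace

namespace Groth.Agent.LD.CH

variable {X : TopCat.{u}} {ι : Type u} (U : ι → Opens X)

lemma prod_le {n : ℕ} (a : Fin (n+1) → ι) (k : Fin (n+1)) : (∏ᶜ (U ∘ a) : Opens X) ≤ U (a k) :=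
  (Pi.π (U ∘ a) k).le

lemma le_prod {n : ℕ} (a : Fin (n+1) → ι) (V : Opens X) (h : ∀ k, V ≤ U (a k)) :
    V ≤ (∏ᶜ (U ∘ a) : Opens X) :=
  (Pi.lift (fun k => homOfLE (h k)) : V ⟶ ∏ᶜ (U ∘ a)).le

lemma prod_eq_iInf {n : ℕ} (a : Fin (n+1) → ι) : (∏ᶜ (U ∘ a) : Opens X) = ⨅ k, U (a k) :=
  le_antisymm (le_iInf fun k => prod_le U a k) (le_prod U a _ fun k => iInf_le _ k)

lemma prod_le_iSup {n : ℕ} (a : Fin (n+1) → ι) : (∏ᶜ (U ∘ a) : Opens X) ≤ iSup U :=
  (prod_le U a 0).trans (le_iSup U (a 0))

variable (P : (Opens X)ᵒᵖ ⥤ AddCommGrpCat.{u})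

lemma res_res {V₁ V₂ V₃ : Opens X} (f : V₂ ⟶ V₁) (g : V₃ ⟶ V₂) (h : V₃ ⟶ V₁)
    (s : P.obj (op V₁)) : P.map g.op (P.map f.op s) = P.map h.op s := by
  rw [← ConcreteCategory.comp_apply, ← P.map_comp, ← op_comp, Subsingleton.elim (g ≫ f) h]

lemma res_congr {n : ℕ} (c : Coch U P n) {b b' : Fin (n+1) → ι} (h : b = b') {V : Opens X}
    (f : V ⟶ ∏ᶜ (U ∘ b)) (f' : V ⟶ ∏ᶜ (U ∘ b')) :
    P.map f.op (c b) = P.map f'.op (c b') := by
  subst h
  rw [Subsingleton.elim f f']

/-- the augmentation on concrete cochains. -/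
noncomputable def augC (s : P.obj (op (iSup U))) : Coch U P 0 :=
  fun a => P.map (homOfLE (prod_le_iSup U a)).op s

/-- the cocycle condition in degree zero. -/
lemma coch_d_zero (x : (K U P).X 0) (a : Fin 2 → ι) :
    coch U P 1 ((K U P).d 0 1 x) a =
      P.map (face U a 0).op (coch U P 0 x (a ∘ Fin.succAbove 0)) -
        P.map (face U a 1).op (coch U P 0 x (a ∘ Fin.succAbove 1)) := by
  rw [coch_d, Fin.sum_univ_two]
  simp [sub_eq_add_neg]

variable (F : Sheaf (Opens.grothendieckTopology X) AddCommGrpCat.{u})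

/-- a degree-zero cocycle of a sheaf glues uniquely. -/
theorem existsUnique_of_cocycle (x : (K U F.obj).X 0) (hx : (K U F.obj).d 0 1 x = 0) :
    ∃! s : F.obj.obj (op (iSup U)), coch U F.obj 0 x = augC U F.obj s := by
  let c := coch U F.obj 0 x
  -- the family of sections
  let sf : ∀ i, F.obj.obj (op (U i)) := fun i =>
    F.obj.map (homOfLE (le_prod U (fun _ : Fin 1 => i) (U i) (fun _ => le_rfl))).op
      (c (fun _ => i))
  have hcomp : TopCat.Presheaf.IsCompatible F.obj U sf := by
    intro i j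
    let a : Fin 2 → ι := ![i, j]
    have hle : U i ⊓ U j ≤ (∏ᶜ (U ∘ a) : Opens X) := by
      apply le_prod
      intro k
      fin_cases k
      · exact inf_le_left
      · exact inf_le_right
    have h0 := coch_d_zero U F.obj x a
    rw [hx, map_zero] at h0
    have h0' : F.obj.map (face U a 0).op (c (a ∘ Fin.succAbove 0)) =
        F.obj.map (face U a 1).op (c (a ∘ Fin.succAbove 1)) := sub_eq_zero.1 h0.symm
    have e1 : a ∘ Fin.succAbove 0 = fun _ => j := by
      funext k; fin_cases k; rfl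
    have e2 : a ∘ Fin.succAbove 1 = fun _ => i := by
      funext k; fin_cases k; rfl
    let mi : U i ⊓ U j ⟶ (∏ᶜ (U ∘ fun _ : Fin 1 => i) : Opens X) :=
      homOfLE ((inf_le_left).trans (le_prod U (fun _ : Fin 1 => i) (U i) (fun _ => le_rfl)))
    let mj : U i ⊓ U j ⟶ (∏ᶜ (U ∘ fun _ : Fin 1 => j) : Opens X) :=
      homOfLE ((inf_le_right).trans (le_prod U (fun _ : Fin 1 => j) (U j) (fun _ => le_rfl)))
    have hL : F.obj.map (homOfLE hle).op (F.obj.map (face U a 0).op (c (a ∘ Fin.succAbove 0))) =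
        F.obj.map mj.op (c (fun _ => j)) := by
      rw [res_res F.obj _ _ (homOfLE hle ≫ face U a 0)]
      exact res_congr U F.obj c e1 _ _
    have hR : F.obj.map (homOfLE hle).op (F.obj.map (face U a 1).op (c (a ∘ Fin.succAbove 1))) =
        F.obj.map mi.op (c (fun _ => i)) := by
      rw [res_res F.obj _ _ (homOfLE hle ≫ face U a 1)]
      exact res_congr U F.obj c e2 _ _
    have h1 := congrArg (F.obj.map (homOfLE hle).op) h0'
    rw [hL, hR] at h1
    change F.obj.map _ (F.obj.map _ (c _)) = F.obj.map _ (F.obj.map _ (c _))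
    rw [res_res F.obj _ _ mi, res_res F.obj _ _ mj]
    exact h1.symm
  obtain ⟨s, hs, huniq⟩ := TopCat.Sheaf.existsUnique_gluing F U sf hcomp
  refine ⟨s, ?_, ?_⟩
  · funext b
    have hb : b = fun _ => b 0 := by
      funext k; fin_cases k; rfl
    have h2 := hs (b 0)
    change c b = F.obj.map _ s
    have h3 : c b = F.obj.map (homOfLE (prod_le U b 0)).op (sf (b 0)) := by
      change c b = F.obj.map _ (F.obj.map _ (c _))
      rw [res_res F.obj _ _ (homOfLE ((prod_le U b 0).trans
        (le_prod U (fun _ : Fin 1 => b 0) (U (b 0)) (fun _ => le_rfl)))),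
        ← res_congr U F.obj c hb (𝟙 _)]
      simp
    rw [h3, ← h2]
    exact res_res F.obj _ _ _ _
  · intro t ht
    apply huniq
    intro i
    change _ = F.obj.map _ (c _)
    rw [show c = augC U F.obj t from ht]
    unfold augC
    exact (res_res F.obj _ _ _ _).symm

/-- the augmentation `F(W) →+ C⁰`. -/
noncomputable def augHom : P.obj (op (iSup U)) →+ (K U P).X 0 where
  toFun s := (coch U P 0).symm (augC U P s)
  map_zero' := by
    rw [AddEquiv.symm_apply_eq, map_zero]
    funext a
    simp [augC]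
  map_add' s t := by
    rw [AddEquiv.symm_apply_eq, map_add, AddEquiv.apply_symm_apply, AddEquiv.apply_symm_apply]
    funext a
    simp [augC]

lemma coch_augHom (s : P.obj (op (iSup U))) : coch U P 0 (augHom U P s) = augC U P s :=
  (coch U P 0).apply_symm_apply _

lemma d_augHom (s : P.obj (op (iSup U))) : (K U P).d 0 1 (augHom U P s) = 0 := by
  apply coch_ext
  intro a
  rw [coch_d_zero, coch_augHom, map_zero, Pi.zero_apply, sub_eq_zero]
  unfold augC
  rw [res_res P _ _ (homOfLE (prod_le_iSup U a)), res_res P _ _ (homOfLE (prod_le_iSup U a))]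

variable {P} in
lemma map_augHom {Q : (Opens X)ᵒᵖ ⥤ AddCommGrpCat.{u}} (φ : P ⟶ Q) (s : P.obj (op (iSup U))) :
    ((cechComplexFunctor U).map φ).f 0 (augHom U P s) = augHom U Q (φ.app _ s) := by
  apply coch_ext
  intro a
  rw [coch_map, coch_augHom, coch_augHom]
  unfold augC
  exact ConcreteCategory.congr_hom (φ.naturality (homOfLE (prod_le_iSup U a)).op) s

lemma augHom_injective : Function.Injective (augHom U F.obj) := by
  intro s t h
  have h2 : augC U F.obj s = augC U F.obj t := by
    rw [← coch_augHom, ← coch_augHom, h]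
  obtain ⟨r, _, hr⟩ := existsUnique_of_cocycle U F (augHom U F.obj s) (d_augHom U F.obj s)
  rw [hr s (coch_augHom U F.obj s), hr t ((coch_augHom U F.obj s).trans h2)]

/-- the augmentation into the kernel of `d⁰`. -/
noncomputable def augKer : P.obj (op (iSup U)) →+ ker0 (K U P) :=
  AddMonoidHom.codRestrict (augHom U P) _ (fun s => by
    rw [AddMonoidHom.mem_ker]
    exact d_augHom U P s)

lemma augKer_bijective : Function.Bijective (augKer U F.obj) := by
  constructor
  · intro s t h
    have h1 : augHom U F.obj s = augHom U F.obj t := congrArg Subtype.val h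
    have h2 : augC U F.obj s = augC U F.obj t := by
      rw [← coch_augHom, ← coch_augHom, h1]
    obtain ⟨r, _, hr⟩ := existsUnique_of_cocycle U F (augHom U F.obj s) (d_augHom U F.obj s)
    rw [hr s (coch_augHom U F.obj s), hr t ((coch_augHom U F.obj s).trans h2)]
  · intro z
    obtain ⟨s, hs, _⟩ := existsUnique_of_cocycle U F z.1 z.2
    refine ⟨s, Subtype.ext ?_⟩
    change augHom U F.obj s = z.1
    apply (coch U F.obj 0).injective
    rw [coch_augHom, hs]

/-- `Ȟ⁰(𝒰, F) ≃ F(⋃ 𝒰)`. -/
noncomputable def topH0Equiv : ((K U F.obj).homology 0 : AddCommGrpCat.{u}) ≃+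
    F.obj.obj (op (iSup U)) :=
  (h0Iso (K U F.obj)).addCommGroupIsoToAddEquiv.trans
    (AddEquiv.ofBijective (augKer U F.obj) (augKer_bijective U F)).symm

lemma topH0Equiv_symm_apply (s : F.obj.obj (op (iSup U))) :
    (topH0Equiv U F).symm s = (h0Iso (K U F.obj)).inv (augKer U F.obj s) := rfl

variable {F} in
lemma topH0Equiv_naturality {G : Sheaf (Opens.grothendieckTopology X) AddCommGrpCat.{u}}
    (φ : F ⟶ G) (z : ((K U F.obj).homology 0 : AddCommGrpCat.{u})) :
    topH0Equiv U G (HomologicalComplex.homologyMap ((cechComplexFunctor U).map φ.hom) 0 z) =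
      φ.hom.app (op (iSup U)) (topH0Equiv U F z) := by
  obtain ⟨s, rfl⟩ := (topH0Equiv U F).symm.surjective z
  rw [AddEquiv.apply_symm_apply, topH0Equiv_symm_apply, ← AddEquiv.eq_symm_apply,
    topH0Equiv_symm_apply]
  have h1 := h0Iso_naturality ((cechComplexFunctor U).map φ.hom)
  have h2 := ConcreteCategory.congr_hom h1 ((h0Iso (K U F.obj)).inv (augKer U F.obj s))
  rw [ConcreteCategory.comp_apply, ConcreteCategory.comp_apply] at h2
  have h3 : (h0Iso (K U F.obj)).hom ((h0Iso (K U F.obj)).inv (augKer U F.obj s)) =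
      augKer U F.obj s := by
    exact Iso.inv_hom_id_apply (h0Iso (K U F.obj)) _
  rw [h3] at h2
  have h4 : ker0Map ((cechComplexFunctor U).map φ.hom) (augKer U F.obj s) =
      augKer U G.obj (φ.hom.app (op (iSup U)) s) := by
    apply Subtype.ext
    change ((cechComplexFunctor U).map φ.hom).f 0 (augHom U F.obj s) = augHom U G.obj _
    apply coch_ext
    intro a
    rw [coch_map, coch_augHom, coch_augHom]
    unfold augC
    exact ConcreteCategory.congr_hom (φ.hom.naturality (homOfLE (prod_le_iSup U a)).op) s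
  rw [h4] at h2
  exact (Iso.hom_inv_id_apply (h0Iso (K U G.obj)) _).symm.trans
    (congrArg (h0Iso (K U G.obj)).inv h2)

end Groth.Agent.LD.CH
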