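import Groth.Agent.Lib.Lead.Cech.LerayNat
import Groth.Agent.Lib.Lead.Cech.Scheme

/-! # Čech cohomology computes the cohomology of quasi-coherent modules, naturally. -/

universe u
open CategoryTheory Limits Opposite TopologicalSpace Abelian AlgebraicGeometry

namespace Groth.Agent.LD.CH

variable {X : Scheme.{u}} {ι : Type u} (U : ι → X.Opens)

lemma acyc_of_affine (haff : ∀ (n : ℕ) (a : Fin (n+1) → ι), IsAffineOpen (⨅ k, U (a k)))
    (M : X.Modules) [M.IsQuasicoherent] : Acyc (X := X.toTopCat) U (Coh.toAb M) := by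
  intro n a q
  apply SC.subsingleton_ext_of_isAffineOpen M q
  rw [prod_eq_iInf (X := X.toTopCat) U a]
  exact haff n a

/-- transport of `Ext(ℤ_V, F)` along an equality of opens. -/
noncomputable def extCongr {V W : X.Opens} (h : V = W) (F : Sheaf (SC.JX X) AddCommGrpCat.{u})
    (p : ℕ) : Ext (SC.ZU (SC.JX X) V) F p ≃+ Ext (SC.ZU (SC.JX X) W) F p where
  toFun x := (Ext.mk₀ (SC.ZUmap (SC.JX X) (eqToHom h.symm))).comp x (zero_add p)
  invFun y := (Ext.mk₀ (SC.ZUmap (SC.JX X) (eqToHom h))).comp y (zero_add p)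
  left_inv x := by
    change (Ext.mk₀ _).comp ((Ext.mk₀ _).comp x _) _ = x
    rw [← Ext.comp_assoc_of_second_deg_zero, Ext.mk₀_comp_mk₀, ← SC.ZUmap_comp, eqToHom_trans,
      eqToHom_refl, SC.ZUmap_id, Ext.mk₀_id_comp]
  right_inv y := by
    change (Ext.mk₀ _).comp ((Ext.mk₀ _).comp y _) _ = y
    rw [← Ext.comp_assoc_of_second_deg_zero, Ext.mk₀_comp_mk₀, ← SC.ZUmap_comp, eqToHom_trans,
      eqToHom_refl, SC.ZUmap_id, Ext.mk₀_id_comp]
  map_add' x y := Ext.comp_add _ _ _ _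

lemma extCongr_comp {V W : X.Opens} (h : V = W) {F G : Sheaf (SC.JX X) AddCommGrpCat.{u}}
    (p : ℕ) (x : Ext (SC.ZU (SC.JX X) V) F p) (φ : F ⟶ G) :
    extCongr h G p (x.comp (Ext.mk₀ φ) (add_zero p)) =
      (extCongr h F p x).comp (Ext.mk₀ φ) (add_zero p) := by
  exact (Ext.comp_assoc _ x (Ext.mk₀ φ) (zero_add p) (add_zero p)
    (show 0 + p + 0 = p by omega)).symm

/-- **Čech cohomology computes cohomology** for quasi-coherent modules and covers with affine
finite intersections. -/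
noncomputable def cechHHEquiv (haff : ∀ (n : ℕ) (a : Fin (n+1) → ι), IsAffineOpen (⨅ k, U (a k)))
    (hU : iSup U = ⊤) (M : X.Modules) [M.IsQuasicoherent] (p : ℕ) :
    ((K U M.presheaf).homology p : AddCommGrpCat.{u}) ≃+ Coh.HH X M p :=
  (lerayEquiv (X := X.toTopCat) U p (Coh.toAb M) (acyc_of_affine U haff M)).trans
    ((extCongr hU (Coh.toAb M) p).trans
      (SC.HEquiv (J := SC.JX X) (isTerminalTop (α := X.Opens)) (Coh.toAb M) p).symm)

lemma HEquiv_symm_comp {F G : Sheaf (SC.JX X) AddCommGrpCat.{u}} (p : ℕ)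
    (y : Ext (SC.ZU (SC.JX X) (⊤ : X.Opens)) F p) (φ : F ⟶ G) :
    (SC.HEquiv (J := SC.JX X) (isTerminalTop (α := X.Opens)) G p).symm
      (y.comp (Ext.mk₀ φ) (add_zero p)) =
    Sheaf.H.map φ p ((SC.HEquiv (J := SC.JX X) (isTerminalTop (α := X.Opens)) F p).symm y) := by
  rw [AddEquiv.symm_apply_eq, Sheaf.H.map_apply]
  have h1 := (SC.HEquiv (J := SC.JX X) (isTerminalTop (α := X.Opens)) F p).apply_symm_apply y
  have h2 := Ext.comp_assoc (Ext.mk₀ (SC.ZUIsoConst (J := SC.JX X)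
    (isTerminalTop (α := X.Opens))).hom)
    ((SC.HEquiv (J := SC.JX X) (isTerminalTop (α := X.Opens)) F p).symm y) (Ext.mk₀ φ)
    (zero_add p) (add_zero p) (show 0 + p + 0 = p by omega)
  refine Eq.trans ?_ h2
  exact congrArg (fun t => Ext.comp t (Ext.mk₀ φ) (add_zero p)) h1.symm

/-- naturality of the comparison isomorphism with respect to morphisms of the underlying abelian
sheaves. -/
theorem cechHHEquiv_naturality
    (haff : ∀ (n : ℕ) (a : Fin (n+1) → ι), IsAffineOpen (⨅ k, U (a k)))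
    (hU : iSup U = ⊤) (M N : X.Modules) [M.IsQuasicoherent] [N.IsQuasicoherent] (p : ℕ)
    (φ : Coh.toAb M ⟶ Coh.toAb N) (x : ((K U M.presheaf).homology p : AddCommGrpCat.{u})) :
    cechHHEquiv U haff hU N p ((HomologicalComplex.homologyMap
      ((cechComplexFunctor U).map φ.hom) p).hom x) =
      Sheaf.H.map φ p (cechHHEquiv U haff hU M p x) := by
  have h1 := lerayEquiv_naturality (X := X.toTopCat) U p (acyc_of_affine U haff M)
    (acyc_of_affine U haff N) φ x
  refine (congrArg (fun t => (SC.HEquiv (J := SC.JX X) (isTerminalTop (α := X.Opens))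
    (Coh.toAb N) p).symm (extCongr hU (Coh.toAb N) p t)) h1).trans ?_
  change (SC.HEquiv _ _ p).symm (extCongr hU (Coh.toAb N) p (Ext.comp _ (Ext.mk₀ φ) _)) = _
  rw [extCongr_comp, HEquiv_symm_comp]
  rfl

end Groth.Agent.LD.CH
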