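import Groth.Agent.Lib.Lead.Cech.TopH0
import Groth.Agent.Lib.Lead.SC.Shift
import Groth.Prelude.Def_CohTop

/-! # Leray's theorem: Čech cohomology computes cohomology for acyclic covers (topological spaces). -/

universe u
open CategoryTheory Limits Opposite TopologicalSpace Abelian

namespace Groth.Agent.LD.CH

/-- transport of a cokernel along compatible isomorphisms. -/
noncomputable def equivOfExact {A B C' A' B' : Type u} [AddCommGroup A] [AddCommGroup B]
    [AddCommGroup C'] [AddCommGroup A'] [AddCommGroup B']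
    (f : A →+ B) (g : B →+ C') (hg : Function.Surjective g) (hfg : g.ker = f.range)
    (f' : A' →+ B') (eA : A ≃+ A') (eB : B ≃+ B') (comm : ∀ a, eB (f a) = f' (eA a)) :
    C' ≃+ B' ⧸ f'.range :=
  (QuotientAddGroup.quotientKerEquivOfSurjective g hg).symm.trans
    (QuotientAddGroup.congr g.ker f'.range eB (by
      rw [hfg]
      ext y
      constructor
      · rintro ⟨_, ⟨a, rfl⟩, rfl⟩
        exact ⟨eA a, (comm a).symm⟩
      · rintro ⟨a', rfl⟩
        refine ⟨f (eA.symm a'), ⟨_, rfl⟩, ?_⟩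
        change eB (f (eA.symm a')) = f' a'
        rw [comm, AddEquiv.apply_symm_apply]))

variable {X : TopCat.{u}} {ι : Type u} (U : ι → Opens X)

local notation "JX" => Opens.grothendieckTopology X


/-- the standard short exact sequence `0 → F → I → Q → 0` with `I` injective. -/
noncomputable abbrev injSeq (F : Sheaf JX AddCommGrpCat.{u}) :
    ShortComplex (Sheaf JX AddCommGrpCat.{u}) :=
  ShortComplex.mk _ _ (cokernel.condition (Injective.ι F))

lemma injSeq_shortExact (F : Sheaf JX AddCommGrpCat.{u}) : (injSeq F).ShortExact :=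
  { exact := ShortComplex.exact_of_g_is_cokernel _ (cokernelIsCokernel (injSeq F).f) }

lemma subsingleton_ext_injective (A I : Sheaf JX AddCommGrpCat.{u}) [Injective I] (n : ℕ) :
    Subsingleton (Ext A I (n+1)) :=
  ⟨fun a b => by rw [Ext.eq_zero_of_injective a, Ext.eq_zero_of_injective b]⟩

/-- Leray, degree one. -/
theorem leray_one (F : Sheaf JX AddCommGrpCat.{u})
    (h : ∀ (n : ℕ) (a : Fin (n+1) → ι), Subsingleton (Ext (SC.ZU JX (∏ᶜ (U ∘ a))) F 1)) :
    Nonempty (((K U F.obj).homology 1 : AddCommGrpCat.{u}) ≃+ Ext (SC.ZU JX (iSup U)) F 1) := by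
  have hS := injSeq_shortExact F
  have hsurj : ∀ (n : ℕ) (a : Fin (n+1) → ι),
      Function.Surjective ((injSeq F).g.hom.app (op (∏ᶜ (U ∘ a)))) :=
    fun n a => SC.surjective_app_of_subsingleton_ext1 hS _ (h n a)
  have hC := shortExact_cech U hS hsurj
  have hI : IsZero ((K U (injSeq F).X₂.obj).homology 1) :=
    isZero_cech_of_injective U (injSeq F).X₂ 0
  haveI := hC.epi_δ 0 1 rfl hI
  have hex := hC.homology_exact₃ 0 1 rfl
  rw [ShortComplex.ab_exact_iff] at hex
  have hδ : Function.Surjective (hC.δ 0 1 rfl) :=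
    (AddCommGrpCat.epi_iff_surjective _).1 inferInstance
  have e := equivOfExact
    (HomologicalComplex.homologyMap ((injSeq F).map (Φ JX U)).g 0).hom
    (hC.δ 0 1 rfl).hom hδ (by
      ext z
      rw [AddMonoidHom.mem_ker, AddMonoidHom.mem_range]
      constructor
      · intro hz
        exact hex z hz
      · rintro ⟨w, rfl⟩
        exact ConcreteCategory.congr_hom (hC.comp_δ 0 1 rfl) w)
    ((injSeq F).g.hom.app (op (iSup U))).hom
    (topH0Equiv U (injSeq F).X₂) (topH0Equiv U (injSeq F).X₃)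
    (fun z => topH0Equiv_naturality U (injSeq F).g z)
  exact ⟨e.trans (SC.ext1Equiv hS (iSup U) (subsingleton_ext_injective _ _ 0))⟩

/-- Leray, degrees `≥ 1`. -/
theorem leray_succ (p : ℕ) : ∀ (F : Sheaf JX AddCommGrpCat.{u})
    (_ : ∀ (n : ℕ) (a : Fin (n+1) → ι) (q : ℕ),
      Subsingleton (Ext (SC.ZU JX (∏ᶜ (U ∘ a))) F (q+1))),
    Nonempty (((K U F.obj).homology (p+1) : AddCommGrpCat.{u}) ≃+
      Ext (SC.ZU JX (iSup U)) F (p+1)) := by
  induction p with
  | zero =>
    intro F h
    exact leray_one U F (fun n a => h n a 0)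
  | succ p ih =>
    intro F h
    have hS := injSeq_shortExact F
    have hsurj : ∀ (n : ℕ) (a : Fin (n+1) → ι),
        Function.Surjective ((injSeq F).g.hom.app (op (∏ᶜ (U ∘ a)))) :=
      fun n a => SC.surjective_app_of_subsingleton_ext1 hS _ (h n a 0)
    have hC := shortExact_cech U hS hsurj
    have hI : ∀ n, IsZero ((K U (injSeq F).X₂.obj).homology (n+1)) :=
      fun n => isZero_cech_of_injective U (injSeq F).X₂ n
    have hQ : ∀ (n : ℕ) (a : Fin (n+1) → ι) (q : ℕ),
        Subsingleton (Ext (SC.ZU JX (∏ᶜ (U ∘ a))) (injSeq F).X₃ (q+1)) :=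
      fun n a q => SC.subsingleton_ext_of_shortExact₃ hS _ (q+1)
        (subsingleton_ext_injective _ _ q) (h n a (q+1))
    obtain ⟨e⟩ := ih (injSeq F).X₃ hQ
    have e1 := (hC.δIso (p+1) (p+2) rfl (hI p) (hI (p+1))).addCommGroupIsoToAddEquiv
    have e2 := SC.extShiftEquiv hS (SC.ZU JX (iSup U)) (p+1)
      (subsingleton_ext_injective _ _ p) (subsingleton_ext_injective _ _ (p+1))
    exact ⟨e1.symm.trans (e.trans e2)⟩

/-- **Leray's theorem** for a family of opens of a topological space. -/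
theorem leray (F : Sheaf JX AddCommGrpCat.{u})
    (h : ∀ (n : ℕ) (a : Fin (n+1) → ι) (q : ℕ),
      Subsingleton (Ext (SC.ZU JX (∏ᶜ (U ∘ a))) F (q+1))) (p : ℕ) :
    Nonempty (((K U F.obj).homology p : AddCommGrpCat.{u}) ≃+ Ext (SC.ZU JX (iSup U)) F p) := by
  cases p with
  | zero => exact ⟨(topH0Equiv U F).trans (SC.H0Equiv (iSup U) F).symm⟩
  | succ p => exact leray_succ U p F h

end Groth.Agent.LD.CH
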