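import Groth.Agent.Lib.Lead.Cech.SiteH0
import Groth.Agent.Lib.Lead.Cech.Leray
import Groth.Agent.Lib.Lead.SC.Shift
import Groth.Prelude.Def_CohCx

/-! # Leray's theorem, surjectivity and Cartan's criterion on a site with fibre products. -/

universe u
open CategoryTheory Limits Opposite Abelian

namespace Groth.Agent.LD.CH

variable {C : Type u} [SmallCategory C] {J : GrothendieckTopology C}
  {U : C} [HasFiniteProducts (Over U)] {ι : Type u} (Y : ι → Over U)

/-- the standard short exact sequence `0 → F → I → Q → 0` with `I` injective. -/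
noncomputable abbrev injSeqS (F : Sheaf J AddCommGrpCat.{u}) :
    ShortComplex (Sheaf J AddCommGrpCat.{u}) :=
  ShortComplex.mk _ _ (cokernel.condition (Injective.ι F))

lemma injSeqS_shortExact (F : Sheaf J AddCommGrpCat.{u}) : (injSeqS F).ShortExact :=
  { exact := ShortComplex.exact_of_g_is_cokernel _ (cokernelIsCokernel (injSeqS F).f) }

lemma subsingleton_ext_injectiveS (A I : Sheaf J AddCommGrpCat.{u}) [Injective I] (n : ℕ) :
    Subsingleton (Ext A I (n+1)) :=
  ⟨fun a b => by rw [Ext.eq_zero_of_injective a, Ext.eq_zero_of_injective b]⟩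

variable (hY : Sieve.ofArrows (fun i => (Y i).left) (fun i => (Y i).hom) ∈ J U)
include hY

/-- Leray, degree one. -/
theorem lerayS_one (F : Sheaf J AddCommGrpCat.{u})
    (h : ∀ (n : ℕ) (a : Fin (n+1) → ι), Subsingleton (Ext (SC.ZU J (∏ᶜ (Y ∘ a)).left) F 1)) :
    Nonempty (((K Y (resOver U F.obj)).homology 1 : AddCommGrpCat.{u}) ≃+
      Ext (SC.ZU J U) F 1) := by
  have hS := injSeqS_shortExact F
  have hsurj : ∀ (n : ℕ) (a : Fin (n+1) → ι),
      Function.Surjective ((injSeqS F).g.hom.app (op (∏ᶜ (Y ∘ a)).left)) :=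
    fun n a => SC.surjective_app_of_subsingleton_ext1 hS _ (h n a)
  have hC := shortExact_cechO Y hS hsurj
  have hI : IsZero ((K Y (resOver U (injSeqS F).X₂.obj)).homology 1) :=
    isZero_cechO_of_injective Y (injSeqS F).X₂ 0
  haveI := hC.epi_δ 0 1 rfl hI
  have hex := hC.homology_exact₃ 0 1 rfl
  rw [ShortComplex.ab_exact_iff] at hex
  have hδ : Function.Surjective (hC.δ 0 1 rfl) :=
    (AddCommGrpCat.epi_iff_surjective _).1 inferInstance
  have e := equivOfExact
    (HomologicalComplex.homologyMap ((injSeqS F).map (ΦO J Y)).g 0).hom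
    (hC.δ 0 1 rfl).hom hδ (by
      ext z
      rw [AddMonoidHom.mem_ker, AddMonoidHom.mem_range]
      constructor
      · intro hz
        exact hex z hz
      · rintro ⟨w, rfl⟩
        exact ConcreteCategory.congr_hom (hC.comp_δ 0 1 rfl) w)
    ((injSeqS F).g.hom.app (op U)).hom
    (siteH0Equiv Y (injSeqS F).X₂ hY) (siteH0Equiv Y (injSeqS F).X₃ hY)
    (fun z => siteH0Equiv_naturality Y hY (injSeqS F).g z)
  exact ⟨e.trans (SC.ext1Equiv hS U (subsingleton_ext_injectiveS _ _ 0))⟩

/-- Leray, degrees `≥ 1`. -/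
theorem lerayS_succ (p : ℕ) : ∀ (F : Sheaf J AddCommGrpCat.{u})
    (_ : ∀ (n : ℕ) (a : Fin (n+1) → ι) (q : ℕ),
      Subsingleton (Ext (SC.ZU J (∏ᶜ (Y ∘ a)).left) F (q+1))),
    Nonempty (((K Y (resOver U F.obj)).homology (p+1) : AddCommGrpCat.{u}) ≃+
      Ext (SC.ZU J U) F (p+1)) := by
  induction p with
  | zero =>
    intro F h
    exact lerayS_one Y hY F (fun n a => h n a 0)
  | succ p ih =>
    intro F h
    have hS := injSeqS_shortExact F
    have hsurj : ∀ (n : ℕ) (a : Fin (n+1) → ι),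
        Function.Surjective ((injSeqS F).g.hom.app (op (∏ᶜ (Y ∘ a)).left)) :=
      fun n a => SC.surjective_app_of_subsingleton_ext1 hS _ (h n a 0)
    have hC := shortExact_cechO Y hS hsurj
    have hI : ∀ n, IsZero ((K Y (resOver U (injSeqS F).X₂.obj)).homology (n+1)) :=
      fun n => isZero_cechO_of_injective Y (injSeqS F).X₂ n
    have hQ : ∀ (n : ℕ) (a : Fin (n+1) → ι) (q : ℕ),
        Subsingleton (Ext (SC.ZU J (∏ᶜ (Y ∘ a)).left) (injSeqS F).X₃ (q+1)) :=
      fun n a q => SC.subsingleton_ext_of_shortExact₃ hS _ (q+1)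
        (subsingleton_ext_injectiveS _ _ q) (h n a (q+1))
    obtain ⟨e⟩ := ih (injSeqS F).X₃ hQ
    have e1 := (hC.δIso (p+1) (p+2) rfl (hI p) (hI (p+1))).addCommGroupIsoToAddEquiv
    have e2 := SC.extShiftEquiv hS (SC.ZU J U) (p+1)
      (subsingleton_ext_injectiveS _ _ p) (subsingleton_ext_injectiveS _ _ (p+1))
    exact ⟨e1.symm.trans (e.trans e2)⟩

/-- **Leray's theorem** for a covering family on a site. -/
theorem lerayS (F : Sheaf J AddCommGrpCat.{u})
    (h : ∀ (n : ℕ) (a : Fin (n+1) → ι) (q : ℕ),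
      Subsingleton (Ext (SC.ZU J (∏ᶜ (Y ∘ a)).left) F (q+1))) (p : ℕ) :
    Nonempty (((K Y (resOver U F.obj)).homology p : AddCommGrpCat.{u}) ≃+
      Ext (SC.ZU J U) F p) := by
  cases p with
  | zero => exact ⟨(siteH0Equiv Y F hY).trans (SC.H0Equiv U F).symm⟩
  | succ p => exact lerayS_succ Y hY p F h

end Groth.Agent.LD.CH
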