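import Groth.Agent.Lib.Lead.Cech.SiteB
import Groth.Agent.Lib.Lead.Cech.H0
import Mathlib.CategoryTheory.Sites.IsSheafFor

/-! # Degree-zero Čech cohomology of a sheaf for a covering family on a site. -/

universe u
open CategoryTheory Limits Opposite

namespace Groth.Agent.LD.CH

variable {C : Type u} [Category.{u} C] {J : GrothendieckTopology C}
  {U : C} [HasFiniteProducts (Over U)] {ι : Type u} (Y : ι → Over U)

variable (P : Cᵒᵖ ⥤ AddCommGrpCat.{u})

lemma resO_res {d₁ d₂ d₃ : Over U} (f : d₂ ⟶ d₁) (g : d₃ ⟶ d₂) (h : d₃ ⟶ d₁) (hh : g ≫ f = h)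
    (s : P.obj (op d₁.left)) : P.map g.left.op (P.map f.left.op s) = P.map h.left.op s := by
  subst hh
  rw [← ConcreteCategory.comp_apply, ← P.map_comp, ← op_comp]
  rfl

lemma resO_congr {n : ℕ} (c : Coch Y (resOver U P) n) {b b' : Fin (n+1) → ι} (h : b = b')
    {d : Over U} (f : d ⟶ ∏ᶜ (Y ∘ b)) (f' : d ⟶ ∏ᶜ (Y ∘ b'))
    (hf : ∀ k, f ≫ Pi.π (Y ∘ b) k = f' ≫ Pi.π (Y ∘ b') k ≫ eqToHom (by rw [h])) :
    P.map f.left.op (c b) = P.map f'.left.op (c b') := by
  subst h
  have : f = f' := by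
    apply Pi.hom_ext
    intro k
    rw [hf k, eqToHom_refl, Category.comp_id]
  rw [this]

/-- the augmentation on concrete cochains. -/
noncomputable def augCO (s : P.obj (op U)) : Coch Y (resOver U P) 0 :=
  fun a => P.map (∏ᶜ (Y ∘ a)).hom.op s

lemma coch_d_zeroO (x : (K Y (resOver U P)).X 0) (a : Fin 2 → ι) :
    coch Y (resOver U P) 1 ((K Y (resOver U P)).d 0 1 x) a =
      P.map (face Y a 0).left.op (coch Y (resOver U P) 0 x (a ∘ Fin.succAbove 0)) -
        P.map (face Y a 1).left.op (coch Y (resOver U P) 0 x (a ∘ Fin.succAbove 1)) := by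
  rw [coch_d, Fin.sum_univ_two]
  simp only [Fin.val_zero, Fin.val_one, pow_zero, pow_one, one_smul, neg_smul, sub_eq_add_neg]
  rfl

variable (F : Sheaf J AddCommGrpCat.{u})

/-- a degree-zero cocycle of a sheaf glues uniquely along a covering family. -/
theorem existsUnique_of_cocycleO
    (hY : Sieve.ofArrows (fun i => (Y i).left) (fun i => (Y i).hom) ∈ J U)
    (x : (K Y (resOver U F.obj)).X 0) (hx : (K Y (resOver U F.obj)).d 0 1 x = 0) :
    ∃! s : F.obj.obj (op U), coch Y (resOver U F.obj) 0 x = augCO Y F.obj s := by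
  let c := coch Y (resOver U F.obj) 0 x
  let l : ∀ i, Y i ⟶ ∏ᶜ (Y ∘ fun _ : Fin 1 => i) := fun i => Pi.lift (fun _ => 𝟙 (Y i))
  let sf : ∀ i, F.obj.obj (op (Y i).left) := fun i => F.obj.map (l i).left.op (c (fun _ => i))
  have hF : Presieve.IsSheaf J (F.obj ⋙ forget AddCommGrpCat.{u}) :=
    (isSheaf_iff_isSheaf_of_type J _).1
      ((Presheaf.isSheaf_iff_isSheaf_forget J F.obj (forget _)).1 F.property)
  have h1 := hF _ hY
  rw [Sieve.ofArrows, ← Presieve.isSheafFor_iff_generate, Presieve.isSheafFor_arrows_iff] at h1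
  have hcomp : Presieve.Arrows.Compatible (F.obj ⋙ forget AddCommGrpCat.{u})
      (fun i => (Y i).hom) sf := by
    intro i j Z gi gj hcomm
    let a : Fin 2 → ι := ![i, j]
    let Z' : Over U := Over.mk (gi ≫ (Y i).hom)
    let gi' : Z' ⟶ Y i := Over.homMk gi rfl
    let gj' : Z' ⟶ Y j := Over.homMk gj hcomm.symm
    let m : Z' ⟶ ∏ᶜ (Y ∘ a) := Pi.lift (fun k => by
      refine Fin.cases gi' (fun k' => ?_) k
      exact (Fin.cases gj' (fun k'' => k''.elim0) k'))
    have hm0 : m ≫ Pi.π (Y ∘ a) 0 = gi' := Pi.lift_π _ _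
    have hm1 : m ≫ Pi.π (Y ∘ a) 1 = gj' := Pi.lift_π _ _
    have h0 := coch_d_zeroO Y F.obj x a
    rw [hx, map_zero] at h0
    have h0' : F.obj.map (face Y a 0).left.op (c (a ∘ Fin.succAbove 0)) =
        F.obj.map (face Y a 1).left.op (c (a ∘ Fin.succAbove 1)) := sub_eq_zero.1 h0.symm
    have e1 : a ∘ Fin.succAbove 0 = fun _ => j := by
      funext k; fin_cases k; rfl
    have e2 : a ∘ Fin.succAbove 1 = fun _ => i := by
      funext k; fin_cases k; rfl
    have hL : F.obj.map m.left.op (F.obj.map (face Y a 0).left.op (c (a ∘ Fin.succAbove 0))) =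
        F.obj.map (gj' ≫ l j).left.op (c (fun _ => j)) := by
      rw [resO_res F.obj _ _ (m ≫ face Y a 0) rfl]
      apply resO_congr Y F.obj c e1
      intro k
      fin_cases k
      simp only [Category.assoc, face_π]
      erw [hm1]
      simp [l]
      exact (Category.comp_id gj').symm
    have hR : F.obj.map m.left.op (F.obj.map (face Y a 1).left.op (c (a ∘ Fin.succAbove 1))) =
        F.obj.map (gi' ≫ l i).left.op (c (fun _ => i)) := by
      rw [resO_res F.obj _ _ (m ≫ face Y a 1) rfl]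
      apply resO_congr Y F.obj c e2
      intro k
      fin_cases k
      simp only [Category.assoc, face_π]
      erw [hm0]
      simp [l]
      exact (Category.comp_id gi').symm
    have h2 := congrArg (F.obj.map m.left.op) h0'
    rw [hL, hR] at h2
    change F.obj.map gi'.left.op (F.obj.map (l i).left.op (c _)) =
      F.obj.map gj'.left.op (F.obj.map (l j).left.op (c _))
    rw [resO_res F.obj (l i) gi' (gi' ≫ l i) rfl, resO_res F.obj (l j) gj' (gj' ≫ l j) rfl]
    exact h2.symm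
  obtain ⟨s, hs, huniq⟩ := h1 sf hcomp
  refine ⟨s, ?_, ?_⟩
  · funext b
    have hb : b = fun _ => b 0 := by
      funext k; fin_cases k; rfl
    have h2 : F.obj.map (Y (b 0)).hom.op s = sf (b 0) := hs (b 0)
    change c b = F.obj.map _ s
    have h3 : c b = F.obj.map (Pi.π (Y ∘ b) 0).left.op (sf (b 0)) := by
      have e1 := resO_res F.obj (l (b 0)) (Pi.π (Y ∘ b) 0) (Pi.π (Y ∘ b) 0 ≫ l (b 0)) rfl
        (c (fun _ => b 0))
      have e2 := resO_congr Y F.obj c hb (𝟙 _) (Pi.π (Y ∘ b) 0 ≫ l (b 0)) (by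
        intro k
        fin_cases k
        simp [l])
      have e3 : F.obj.map (Over.Hom.left (𝟙 (∏ᶜ (Y ∘ b)))).op (c b) = c b := by
        change F.obj.map (𝟙 _) (c b) = c b
        rw [F.obj.map_id]
        rfl
      exact e3.symm.trans (e2.trans e1.symm)
    have hw : (Pi.π (Y ∘ b) 0).left ≫ (Y (b 0)).hom = (∏ᶜ (Y ∘ b)).hom := Over.w _
    have e4 : F.obj.map (Pi.π (Y ∘ b) 0).left.op (F.obj.map (Y (b 0)).hom.op s) =
        F.obj.map ((Pi.π (Y ∘ b) 0).left ≫ (Y (b 0)).hom).op s := by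
      rw [← ConcreteCategory.comp_apply, ← F.obj.map_comp, ← op_comp]
    have e5 : F.obj.map ((Pi.π (Y ∘ b) 0).left ≫ (Y (b 0)).hom).op s =
        F.obj.map (∏ᶜ (Y ∘ b)).hom.op s :=
      congrArg (fun t : (∏ᶜ (Y ∘ b)).left ⟶ U => F.obj.map t.op s) hw
    rw [h3, ← h2]
    exact e4.trans e5
  · intro t ht
    apply huniq
    intro i
    change F.obj.map (Y i).hom.op t = F.obj.map (l i).left.op (c (fun _ => i))
    rw [show c = augCO Y F.obj t from ht]
    unfold augCO
    have hw : (l i).left ≫ (∏ᶜ (Y ∘ fun _ : Fin 1 => i)).hom = (Y i).hom := Over.w _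
    have e4 : F.obj.map (l i).left.op (F.obj.map (∏ᶜ (Y ∘ fun _ : Fin 1 => i)).hom.op t) =
        F.obj.map ((l i).left ≫ (∏ᶜ (Y ∘ fun _ : Fin 1 => i)).hom).op t := by
      rw [← ConcreteCategory.comp_apply, ← F.obj.map_comp, ← op_comp]
    have e5 : F.obj.map ((l i).left ≫ (∏ᶜ (Y ∘ fun _ : Fin 1 => i)).hom).op t =
        F.obj.map (Y i).hom.op t :=
      congrArg (fun g : (Y i).left ⟶ U => F.obj.map g.op t) hw
    exact (e4.trans e5).symm

/-- the augmentation `P(U) →+ C⁰`. -/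
noncomputable def augHomO : P.obj (op U) →+ (K Y (resOver U P)).X 0 where
  toFun s := (coch Y (resOver U P) 0).symm (augCO Y P s)
  map_zero' := by
    rw [AddEquiv.symm_apply_eq, map_zero]
    funext a
    exact map_zero (P.map (∏ᶜ (Y ∘ a)).hom.op).hom
  map_add' s t := by
    rw [AddEquiv.symm_apply_eq, map_add, AddEquiv.apply_symm_apply, AddEquiv.apply_symm_apply]
    funext a
    exact map_add (P.map (∏ᶜ (Y ∘ a)).hom.op).hom s t

lemma coch_augHomO (s : P.obj (op U)) :
    coch Y (resOver U P) 0 (augHomO Y P s) = augCO Y P s :=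
  (coch Y (resOver U P) 0).apply_symm_apply _

lemma d_augHomO (s : P.obj (op U)) : (K Y (resOver U P)).d 0 1 (augHomO Y P s) = 0 := by
  apply coch_ext
  intro a
  rw [coch_d_zeroO, coch_augHomO, map_zero, Pi.zero_apply]
  unfold augCO
  refine sub_eq_zero.2 ?_
  have h : ∀ (j : Fin 2), P.map (face Y a j).left.op
      (P.map (∏ᶜ (Y ∘ a ∘ j.succAbove)).hom.op s) = P.map (∏ᶜ (Y ∘ a)).hom.op s := by
    intro j
    have hw : (face Y a j).left ≫ (∏ᶜ (Y ∘ a ∘ j.succAbove)).hom = (∏ᶜ (Y ∘ a)).hom := Over.w _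
    have e4 : P.map (face Y a j).left.op (P.map (∏ᶜ (Y ∘ a ∘ j.succAbove)).hom.op s) =
        P.map ((face Y a j).left ≫ (∏ᶜ (Y ∘ a ∘ j.succAbove)).hom).op s := by
      rw [← ConcreteCategory.comp_apply, ← P.map_comp, ← op_comp]
    exact e4.trans (congrArg (fun g : (∏ᶜ (Y ∘ a)).left ⟶ U => P.map g.op s) hw)
  exact (h 0).trans (h 1).symm

variable {P} in
lemma map_augHomO {Q : Cᵒᵖ ⥤ AddCommGrpCat.{u}} (φ : P ⟶ Q) (s : P.obj (op U)) :
    ((cechComplexFunctor Y).map ((resOverF U).map φ)).f 0 (augHomO Y P s) =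
      augHomO Y Q (φ.app _ s) := by
  apply coch_ext
  intro a
  refine (coch_map Y ((resOverF U).map φ) 0 _ a).trans ?_
  have e1 : coch Y (resOver U P) 0 (augHomO Y P s) a = P.map (∏ᶜ (Y ∘ a)).hom.op s :=
    congrFun (coch_augHomO Y P s) a
  have e2 : coch Y (resOver U Q) 0 (augHomO Y Q (φ.app _ s)) a =
      Q.map (∏ᶜ (Y ∘ a)).hom.op (φ.app _ s) := congrFun (coch_augHomO Y Q (φ.app _ s)) a
  refine Eq.trans ?_ e2.symm
  refine (congrArg (fun t => φ.app (op (∏ᶜ (Y ∘ a)).left) t) e1).trans ?_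
  exact ConcreteCategory.congr_hom (φ.naturality (∏ᶜ (Y ∘ a)).hom.op) s

variable (hY : Sieve.ofArrows (fun i => (Y i).left) (fun i => (Y i).hom) ∈ J U)
include hY

lemma augHomO_injective : Function.Injective (augHomO Y F.obj) := by
  intro s t h
  have h2 : augCO Y F.obj s = augCO Y F.obj t := by
    rw [← coch_augHomO, ← coch_augHomO, h]
  obtain ⟨r, _, hr⟩ := existsUnique_of_cocycleO Y F hY (augHomO Y F.obj s) (d_augHomO Y F.obj s)
  rw [hr s (coch_augHomO Y F.obj s), hr t ((coch_augHomO Y F.obj s).trans h2)]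

omit hY in
/-- the augmentation into the kernel of `d⁰`. -/
noncomputable def augKerO : P.obj (op U) →+ ker0 (K Y (resOver U P)) :=
  AddMonoidHom.codRestrict (augHomO Y P) _ (fun s => by
    rw [AddMonoidHom.mem_ker]
    exact d_augHomO Y P s)

lemma augKerO_bijective : Function.Bijective (augKerO Y F.obj) := by
  constructor
  · intro s t h
    exact augHomO_injective Y F hY (congrArg Subtype.val h)
  · intro z
    obtain ⟨s, hs, _⟩ := existsUnique_of_cocycleO Y F hY z.1 z.2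
    refine ⟨s, Subtype.ext ?_⟩
    change augHomO Y F.obj s = z.1
    apply (coch Y (resOver U F.obj) 0).injective
    rw [coch_augHomO, hs]

/-- `Ȟ⁰(𝒴, F) ≃ F(U)`. -/
noncomputable def siteH0Equiv : ((K Y (resOver U F.obj)).homology 0 : AddCommGrpCat.{u}) ≃+
    F.obj.obj (op U) :=
  (h0Iso (K Y (resOver U F.obj))).addCommGroupIsoToAddEquiv.trans
    (AddEquiv.ofBijective (augKerO Y F.obj) (augKerO_bijective Y F hY)).symm

lemma siteH0Equiv_symm_apply (s : F.obj.obj (op U)) :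
    (siteH0Equiv Y F hY).symm s = (h0Iso (K Y (resOver U F.obj))).inv (augKerO Y F.obj s) := rfl

variable {F} in
lemma siteH0Equiv_naturality {G : Sheaf J AddCommGrpCat.{u}}
    (φ : F ⟶ G) (z : ((K Y (resOver U F.obj)).homology 0 : AddCommGrpCat.{u})) :
    siteH0Equiv Y G hY (HomologicalComplex.homologyMap (cmap Y φ) 0 z) =
      φ.hom.app (op U) (siteH0Equiv Y F hY z) := by
  obtain ⟨s, rfl⟩ := (siteH0Equiv Y F hY).symm.surjective z
  rw [AddEquiv.apply_symm_apply, siteH0Equiv_symm_apply, ← AddEquiv.eq_symm_apply,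
    siteH0Equiv_symm_apply]
  have h1 := h0Iso_naturality (cmap Y φ)
  have h2 := ConcreteCategory.congr_hom h1 ((h0Iso (K Y (resOver U F.obj))).inv (augKerO Y F.obj s))
  rw [ConcreteCategory.comp_apply, ConcreteCategory.comp_apply] at h2
  have h3 : (h0Iso (K Y (resOver U F.obj))).hom
      ((h0Iso (K Y (resOver U F.obj))).inv (augKerO Y F.obj s)) = augKerO Y F.obj s :=
    Iso.inv_hom_id_apply (h0Iso (K Y (resOver U F.obj))) _
  rw [h3] at h2
  have h4 : ker0Map (cmap Y φ) (augKerO Y F.obj s) = augKerO Y G.obj (φ.hom.app (op U) s) := by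
    apply Subtype.ext
    exact map_augHomO Y φ.hom s
  rw [h4] at h2
  exact (Iso.hom_inv_id_apply (h0Iso (K Y (resOver U G.obj))) _).symm.trans
    (congrArg (h0Iso (K Y (resOver U G.obj))).inv h2)

end Groth.Agent.LD.CH
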