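import Mathlib.CategoryTheory.Sites.SheafCohomology.Cech
import Mathlib.Algebra.Category.Grp.Limits
import Mathlib.CategoryTheory.Limits.Shapes.ConcreteCategory
import Mathlib.Algebra.Category.Grp.Preadditive
import Mathlib.Algebra.Category.Grp.Abelian
import Mathlib.Algebra.Homology.ShortComplex.Ab
import Mathlib.Algebra.Homology.ShortComplex.HomologicalComplex

/-! # Čech complex of a presheaf of abelian groups: elementwise API. -/

universe u
open CategoryTheory Limits Opposite

namespace Groth.Agent.LD.CH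

variable {C : Type u} [Category.{u} C] [HasFiniteProducts C] {ι : Type u} (U : ι → C)
  (P : Cᵒᵖ ⥤ AddCommGrpCat.{u})

/-- the Čech complex. -/
noncomputable abbrev K : CochainComplex AddCommGrpCat.{u} ℕ := (cechComplexFunctor U).obj P

/-- the `i`-th face `U_{a} ⟶ U_{a ∘ δ i}`. -/
noncomputable def face {n : ℕ} (a : Fin (n+2) → ι) (i : Fin (n+2)) :
    ∏ᶜ (U ∘ a) ⟶ ∏ᶜ (U ∘ a ∘ i.succAbove) :=
  Pi.lift fun k => Pi.π (U ∘ a) (i.succAbove k)

@[reassoc (attr := simp)]
lemma face_π {n : ℕ} (a : Fin (n+2) → ι) (i : Fin (n+2)) (k : Fin (n+1)) :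
    face U a i ≫ Pi.π (U ∘ a ∘ i.succAbove) k = Pi.π (U ∘ a) (i.succAbove k) := by
  simp [face]

/-- the coface maps of the Čech complex. -/
noncomputable def coface (n : ℕ) (i : Fin (n+2)) : (K U P).X n ⟶ (K U P).X (n+1) :=
  Pi.lift fun (a : Fin (n+2) → ι) =>
    Pi.π (fun (b : Fin (n+1) → ι) => P.obj (op (∏ᶜ (U ∘ b)))) (a ∘ i.succAbove) ≫
      P.map (face U a i).op

open AlgebraicTopology in
lemma d_eq (n : ℕ) : (K U P).d n (n+1) = ∑ i : Fin (n+2), (-1 : ℤ)^(i:ℕ) • coface U P n i := by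
  let X := (FormalCoproduct.cosimplicialObjectFunctor (FormalCoproduct.mk _ U).cech).obj P
  have h1 : (K U P).d n (n+1) = AlternatingCofaceMapComplex.objD X n :=
    CochainComplex.of_d (fun n => X.obj (SimplexCategory.mk n))
      (AlternatingCofaceMapComplex.objD X) n
  rw [h1]
  rfl

/-- evaluation of morphisms at an element, as an additive map. -/
def evalHom {M N : AddCommGrpCat.{u}} (x : M) : (M ⟶ N) →+ N where
  toFun f := f x
  map_zero' := rfl
  map_add' _ _ := rfl

lemma sum_hom_apply {M N : AddCommGrpCat.{u}} {α : Type*} (s : Finset α) (f : α → (M ⟶ N)) (x : M) :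
    (∑ i ∈ s, f i) x = ∑ i ∈ s, f i x :=
  map_sum (evalHom x) f s

lemma zsmul_hom_apply {M N : AddCommGrpCat.{u}} (k : ℤ) (f : M ⟶ N) (x : M) :
    (k • f) x = k • f x := rfl

/-- concrete cochains. -/
abbrev Coch (n : ℕ) : Type u := ∀ a : Fin (n+1) → ι, P.obj (op (∏ᶜ (U ∘ a)))

/-- cochains of Mathlib's Čech complex as families of sections. -/
noncomputable def coch (n : ℕ) : (K U P).X n ≃+ Coch U P n :=
  { Concrete.productEquiv (fun (a : Fin (n+1) → ι) => P.obj (op (∏ᶜ (U ∘ a)))) with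
    map_add' := fun x y => by
      funext a
      change Concrete.productEquiv _ (x + y) a = Concrete.productEquiv _ x a +
        Concrete.productEquiv _ y a
      simp only [Concrete.productEquiv_apply_apply]
      exact map_add _ x y }

lemma coch_apply (n : ℕ) (x : (K U P).X n) (a : Fin (n+1) → ι) :
    coch U P n x a = Pi.π (fun (a : Fin (n+1) → ι) => P.obj (op (∏ᶜ (U ∘ a)))) a x :=
  Concrete.productEquiv_apply_apply _ x a

lemma coch_coface (n : ℕ) (i : Fin (n+2)) (x : (K U P).X n) (a : Fin (n+2) → ι) :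
    coch U P (n+1) (coface U P n i x) a = P.map (face U a i).op (coch U P n x (a ∘ i.succAbove)) := by
  rw [coch_apply, coch_apply]
  have h : coface U P n i ≫ Pi.π (fun (a : Fin (n+2) → ι) => P.obj (op (∏ᶜ (U ∘ a)))) a =
      Pi.π (fun (b : Fin (n+1) → ι) => P.obj (op (∏ᶜ (U ∘ b)))) (a ∘ i.succAbove) ≫
        P.map (face U a i).op :=
    Pi.lift_π _ a
  exact ConcreteCategory.congr_hom h x

lemma coch_d (n : ℕ) (x : (K U P).X n) (a : Fin (n+2) → ι) :
    coch U P (n+1) ((K U P).d n (n+1) x) a =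
      ∑ i : Fin (n+2), (-1 : ℤ)^(i:ℕ) • P.map (face U a i).op (coch U P n x (a ∘ i.succAbove)) := by
  rw [d_eq, sum_hom_apply, map_sum, Finset.sum_apply]
  refine Finset.sum_congr rfl fun i _ => ?_
  rw [zsmul_hom_apply, map_zsmul, Pi.smul_apply, coch_coface]

lemma coch_ext {n : ℕ} {x y : (K U P).X n} (h : ∀ a, coch U P n x a = coch U P n y a) : x = y :=
  (coch U P n).injective (funext h)

variable {P} in
lemma coch_map {Q : Cᵒᵖ ⥤ AddCommGrpCat.{u}} (φ : P ⟶ Q) (n : ℕ) (x : (K U P).X n)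
    (a : Fin (n+1) → ι) :
    coch U Q n (((cechComplexFunctor U).map φ).f n x) a = φ.app _ (coch U P n x a) := by
  rw [coch_apply, coch_apply]
  have h : ((cechComplexFunctor U).map φ).f n ≫
      Pi.π (fun (a : Fin (n+1) → ι) => Q.obj (op (∏ᶜ (U ∘ a)))) a =
      Pi.π (fun (a : Fin (n+1) → ι) => P.obj (op (∏ᶜ (U ∘ a)))) a ≫ φ.app _ :=
    Pi.map_π (fun (a : Fin (n+1) → ι) => φ.app (op (∏ᶜ (U ∘ a)))) a
  exact ConcreteCategory.congr_hom h x

instance : (cechComplexFunctor (A := AddCommGrpCat.{u}) U).Additive where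
  map_add {P Q f g} := by
    ext n x
    apply coch_ext
    intro a
    rw [coch_map, HomologicalComplex.add_f_apply]
    change _ = coch U Q n (((cechComplexFunctor U).map f).f n x + ((cechComplexFunctor U).map g).f n x) a
    rw [map_add, Pi.add_apply, coch_map, coch_map]
    rfl

/-- exactness criterion in positive degrees. -/
lemma isZero_homology_succ_iff (n : ℕ) :
    IsZero ((K U P).homology (n+1)) ↔
      ∀ x : (K U P).X (n+1), (K U P).d (n+1) (n+2) x = 0 → ∃ y : (K U P).X n,
        (K U P).d n (n+1) y = x := by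
  rw [← HomologicalComplex.exactAt_iff_isZero_homology,
    HomologicalComplex.exactAt_iff' _ n (n+1) (n+2) (by simp) (by simp),
    ShortComplex.ab_exact_iff]
  rfl

end Groth.Agent.LD.CH
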