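import Groth.Agent.Lib.Lead.Cech.Surj
import Groth.Agent.Lib.Lead.Cech.Leray

/-! # Cartan's criterion: Čech-acyclicity on a class of covers implies acyclicity. -/

universe u
open CategoryTheory Limits Opposite TopologicalSpace Abelian

namespace Groth.Agent.LD.CH

variable {X : TopCat.{u}}

local notation "JX" => Opens.grothendieckTopology X

theorem cartan (B : Set (Opens X)) (Cov : ∀ (ι : Type u), (ι → Opens X) → Prop)
    (h1 : ∀ (ι : Type u) (V : ι → Opens X), Cov ι V →
      iSup V ∈ B ∧ ∀ (p : ℕ) (a : Fin (p + 1) → ι), (iInf fun k => V (a k)) ∈ B)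
    (h2 : ∀ U ∈ B, ∀ (κ : Type u) (W : κ → Opens X), iSup W = U →
      ∃ (ι : Type u) (V : ι → Opens X), Cov ι V ∧ iSup V = U ∧ ∀ i, ∃ k, V i ≤ W k)
    (p : ℕ) : ∀ (F : Sheaf JX AddCommGrpCat.{u})
    (_ : ∀ (ι : Type u) (V : ι → Opens X), Cov ι V → ∀ p : ℕ,
      IsZero ((K V F.obj).homology (p + 1)))
    (U : Opens X) (_ : U ∈ B), Subsingleton (Ext (SC.ZU JX U) F (p + 1)) := by
  -- surjectivity on sections over members of `B`
  have hsurj : ∀ (F : Sheaf JX AddCommGrpCat.{u})
      (_ : ∀ (ι : Type u) (V : ι → Opens X), Cov ι V → ∀ p : ℕ,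
        IsZero ((K V F.obj).homology (p + 1))) (U : Opens X) (_ : U ∈ B),
      Function.Surjective ((injSeq F).g.hom.app (op U)) := by
    intro F h3 U hU
    apply surjective_of_refinement (injSeq_shortExact F) U
    intro κ W hW
    obtain ⟨ι, V, hCov, hV, hr⟩ := h2 U hU κ W hW
    choose r hr using hr
    exact ⟨ι, V, r, hV, hr, h3 ι V hCov 0⟩
  -- the quotient inherits the hypothesis
  have hQ : ∀ (F : Sheaf JX AddCommGrpCat.{u})
      (_ : ∀ (ι : Type u) (V : ι → Opens X), Cov ι V → ∀ p : ℕ,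
        IsZero ((K V F.obj).homology (p + 1))),
      ∀ (ι : Type u) (V : ι → Opens X), Cov ι V → ∀ p : ℕ,
        IsZero ((K V (injSeq F).X₃.obj).homology (p + 1)) := by
    intro F h3 ι V hCov p
    have hs : ∀ (n : ℕ) (a : Fin (n+1) → ι),
        Function.Surjective ((injSeq F).g.hom.app (op (∏ᶜ (V ∘ a)))) := by
      intro n a
      apply hsurj F h3
      rw [prod_eq_iInf]
      exact (h1 ι V hCov).2 n a
    have hC := shortExact_cech V (injSeq_shortExact F) hs
    have hI : ∀ n, IsZero ((K V (injSeq F).X₂.obj).homology (n+1)) :=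
      fun n => isZero_cech_of_injective V (injSeq F).X₂ n
    exact IsZero.of_iso (h3 ι V hCov (p+1)) (hC.δIso (p+1) (p+2) rfl (hI p) (hI (p+1)))
  induction p with
  | zero =>
    intro F h3 U hU
    have e := SC.ext1Equiv (injSeq_shortExact F) U (subsingleton_ext_injective _ _ 0)
    have hs := hsurj F h3 U hU
    haveI : Subsingleton ((injSeq F).X₃.obj.obj (op U) ⧸
        ((injSeq F).g.hom.app (op U)).hom.range) := by
      refine ⟨fun a b => ?_⟩
      obtain ⟨a, rfl⟩ := QuotientAddGroup.mk_surjective a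
      obtain ⟨b, rfl⟩ := QuotientAddGroup.mk_surjective b
      rw [QuotientAddGroup.eq]
      obtain ⟨c, hc⟩ := hs (-a + b)
      exact ⟨c, hc⟩
    exact e.symm.toEquiv.subsingleton
  | succ p ih =>
    intro F h3 U hU
    have e2 := SC.extShiftEquiv (injSeq_shortExact F) (SC.ZU JX U) (p+1)
      (subsingleton_ext_injective _ _ p) (subsingleton_ext_injective _ _ (p+1))
    haveI := ih (injSeq F).X₃ (hQ F h3) U hU
    exact e2.symm.toEquiv.subsingleton

end Groth.Agent.LD.CH
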