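import Mathlib.Algebra.Homology.ShortComplex.HomologicalComplex
import Mathlib.Algebra.Homology.ShortComplex.Ab
import Mathlib.Algebra.Category.Grp.Kernels

/-! # Cohomology classes of cocycles in cochain complexes of abelian groups. -/

universe u
open CategoryTheory Limits

namespace Groth.Agent.LD.CH

variable (K L : CochainComplex AddCommGrpCat.{u} ℕ) (p : ℕ)

/-- the group of cocycles of degree `p+1`. -/
abbrev Zc : AddSubgroup (K.X (p+1)) := (K.d (p+1) (p+2)).hom.ker

/-- `K.cycles (p+1)` is the group of cocycles. -/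
noncomputable def cyclesIsoZc : K.cycles (p+1) ≅ AddCommGrpCat.of (Zc K p) :=
  IsLimit.conePointUniqueUpToIso (K.cyclesIsKernel (p+1) (p+2) (by simp))
    (AddCommGrpCat.kernelIsLimit (K.d (p+1) (p+2)))

lemma cyclesIsoZc_inv_i (z : Zc K p) : K.iCycles (p+1) ((cyclesIsoZc K p).inv z) = z.1 := by
  have h := IsLimit.conePointUniqueUpToIso_inv_comp (K.cyclesIsKernel (p+1) (p+2) (by simp))
    (AddCommGrpCat.kernelIsLimit (K.d (p+1) (p+2))) WalkingParallelPair.zero
  exact ConcreteCategory.congr_hom h z

/-- the cohomology class of a cocycle. -/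
noncomputable def cls : Zc K p →+ (K.homology (p+1) : AddCommGrpCat.{u}) :=
  ((cyclesIsoZc K p).inv ≫ K.homologyπ (p+1)).hom

lemma cls_apply (z : Zc K p) : cls K p z = K.homologyπ (p+1) ((cyclesIsoZc K p).inv z) := rfl

lemma cls_surjective : Function.Surjective (cls K p) := by
  haveI : Epi ((cyclesIsoZc K p).inv ≫ K.homologyπ (p+1)) := epi_comp _ _
  exact (AddCommGrpCat.epi_iff_surjective _).1 inferInstance

lemma iCycles_injective : Function.Injective (K.iCycles (p+1)) :=
  (AddCommGrpCat.mono_iff_injective _).1 inferInstance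

lemma cls_eq_zero_iff (z : Zc K p) : cls K p z = 0 ↔ ∃ y : K.X p, K.d p (p+1) y = z.1 := by
  have hex : (ShortComplex.mk (K.toCycles p (p+1)) (K.homologyπ (p+1))
      (K.toCycles_comp_homologyπ p (p+1))).Exact :=
    ShortComplex.exact_of_g_is_cokernel _ (K.homologyIsCokernel p (p+1) (by simp))
  rw [ShortComplex.ab_exact_iff] at hex
  constructor
  · intro h
    obtain ⟨y, hy⟩ := hex _ h
    refine ⟨y, ?_⟩
    have h1 := ConcreteCategory.congr_hom (K.toCycles_i p (p+1)) y
    rw [← h1]
    change K.iCycles (p+1) (K.toCycles p (p+1) y) = _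
    have hy' : K.toCycles p (p+1) y = (cyclesIsoZc K p).inv z := hy
    rw [hy', cyclesIsoZc_inv_i]
  · rintro ⟨y, hy⟩
    have h2 : (cyclesIsoZc K p).inv z = K.toCycles p (p+1) y := by
      apply iCycles_injective K p
      rw [cyclesIsoZc_inv_i, ← hy]
      exact (ConcreteCategory.congr_hom (K.toCycles_i p (p+1)) y).symm
    rw [cls_apply, h2]
    exact ConcreteCategory.congr_hom (K.toCycles_comp_homologyπ p (p+1)) y

variable {K L}

/-- the image of a cocycle under a morphism of complexes. -/
def mapZc (f : K ⟶ L) (z : Zc K p) : Zc L p :=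
  ⟨f.f (p+1) z.1, by
    change (L.d (p+1) (p+2)) (f.f (p+1) z.1) = 0
    have h := ConcreteCategory.congr_hom (f.comm (p+1) (p+2)) z.1
    rw [ConcreteCategory.comp_apply, ConcreteCategory.comp_apply] at h
    rw [h]
    have hz : (K.d (p+1) (p+2)) z.1 = 0 := z.2
    rw [hz, map_zero]⟩

lemma cls_naturality (f : K ⟶ L) (z : Zc K p) :
    (HomologicalComplex.homologyMap f (p+1)).hom (cls K p z) = cls L p (mapZc p f z) := by
  rw [cls_apply, cls_apply]
  have h1 := ConcreteCategory.congr_hom (HomologicalComplex.homologyπ_naturality f (p+1))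
    ((cyclesIsoZc K p).inv z)
  rw [ConcreteCategory.comp_apply, ConcreteCategory.comp_apply] at h1
  refine h1.trans ?_
  congr 1
  apply iCycles_injective L p
  rw [cyclesIsoZc_inv_i]
  have h2 := ConcreteCategory.congr_hom (HomologicalComplex.cyclesMap_i f (p+1))
    ((cyclesIsoZc K p).inv z)
  rw [ConcreteCategory.comp_apply, ConcreteCategory.comp_apply, cyclesIsoZc_inv_i] at h2
  exact h2

end Groth.Agent.LD.CH
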