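import Groth.Agent.Lib.Lead.Cech.Compare
import Groth.Agent.Lib.Lead.SC.RestrictTop
import Groth.Agent.S0455

/-! # Čech cohomology vanishes when `F(⋃ U) → F(U')` is surjective for all unions `U'` of finite
intersections of members of the family (via the coarse topology generated by the family). -/

universe u
open CategoryTheory Limits Opposite TopologicalSpace Topology

namespace Groth.Agent.LD.CH

variable {X : TopCat.{u}} {ι : Type u} (U : ι → Opens X)

/-- the carrier of the coarse space: the union of the family (a type synonym). -/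
def Cc : Type u := ↥(iSup U : Opens X)

/-- the inclusion of the carrier. -/
def valc (y : Cc U) : X := Subtype.val (show ↥(iSup U : Opens X) from y)

lemma valc_mem (y : Cc U) : valc U y ∈ (iSup U : Opens X) :=
  Subtype.property (show ↥(iSup U : Opens X) from y)

/-- points of the carrier. -/
def mkc (x : X) (hx : x ∈ (iSup U : Opens X)) : Cc U := (⟨x, hx⟩ : ↥(iSup U : Opens X))

@[simp] lemma valc_mkc (x : X) (hx : x ∈ (iSup U : Opens X)) : valc U (mkc U x hx) = x := rfl

@[simp] lemma mkc_valc (y : Cc U) : mkc U (valc U y) (valc_mem U y) = y := rfl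

/-- the basic sets of the coarse topology. -/
def basisSets : Set (Set (Cc U)) :=
  {s | ∃ (n : ℕ) (a : Fin (n+1) → ι), s = valc U ⁻¹' (⋂ k, (U (a k) : Set X))}

/-- the coarse topology. -/
instance coarseTop : TopologicalSpace (Cc U) := TopologicalSpace.generateFrom (basisSets U)

lemma isTopologicalBasis_basisSets : IsTopologicalBasis (basisSets U) := by
  refine ⟨?_, ?_, rfl⟩
  · rintro _ ⟨n, a, rfl⟩ _ ⟨m, b, rfl⟩ x hx
    refine ⟨_, ⟨n + m + 1, fun k => Fin.append a b (Fin.cast (by omega) k), rfl⟩, ?_, ?_⟩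
    · obtain ⟨hx1, hx2⟩ := hx
      simp only [Set.mem_preimage, Set.mem_iInter] at hx1 hx2 ⊢
      intro k
      generalize Fin.cast _ k = k'
      induction k' using Fin.addCases with
      | left i => rw [Fin.append_left]; exact hx1 i
      | right j => rw [Fin.append_right]; exact hx2 j
    · intro y hy
      simp only [Set.mem_preimage, Set.mem_iInter, Set.mem_inter_iff] at hy ⊢
      constructor
      · intro i
        have := hy (Fin.cast (by omega) (Fin.castAdd (m+1) i))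
        rwa [Fin.cast_cast, Fin.cast_eq_self, Fin.append_left] at this
      · intro j
        have := hy (Fin.cast (by omega) (Fin.natAdd (n+1) j))
        rwa [Fin.cast_cast, Fin.cast_eq_self, Fin.append_right] at this
  · rw [Set.eq_univ_iff_forall]
    intro x
    obtain ⟨i, hi⟩ := Opens.mem_iSup.1 (valc_mem U x)
    refine ⟨_, ⟨0, fun _ => i, rfl⟩, ?_⟩
    simp only [Set.mem_preimage, Set.mem_iInter]
    exact fun _ => hi

/-- the coarse space. -/
abbrev Yc : TopCat.{u} := TopCat.of (Cc U)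

/-- the identity map to the type synonym. -/
def toCc (y : ↥(iSup U : Opens X)) : Cc U := y

lemma continuous_toCc : Continuous (toCc U) := by
  apply continuous_generateFrom_iff.2
  rintro _ ⟨n, a, rfl⟩
  exact (isOpen_iInter_of_finite fun k => (U (a k)).2).preimage continuous_subtype_val

/-- the identity map from the subspace to the coarse space. -/
def gc : TopCat.of ↥(iSup U : Opens X) ⟶ Yc U :=
  TopCat.ofHom ⟨toCc U, continuous_toCc U⟩

lemma isOpenEmbedding_incl : IsOpenEmbedding (TopCat.Hom.hom (TopCat.ofHom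
    (⟨_, continuous_subtype_val⟩ : C((iSup U : Opens X), X)))) :=
  (iSup U : Opens X).isOpenEmbedding

/-- the comparison functor on opens. -/
noncomputable def Φc : Opens (Yc U) ⥤ Opens X :=
  Opens.map (gc U) ⋙ (isOpenEmbedding_incl U).isOpenMap.functor

lemma mem_Φc (V : Opens (Yc U)) (x : X) :
    x ∈ (Φc U).obj V ↔ ∃ hx : x ∈ (iSup U : Opens X), mkc U x hx ∈ V := by
  constructor
  · rintro ⟨y, hy, rfl⟩
    exact ⟨y.2, hy⟩
  · rintro ⟨hx, hV⟩
    exact ⟨⟨x, hx⟩, hV, rfl⟩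

lemma Φc_le (V : Opens (Yc U)) : (Φc U).obj V ≤ iSup U := by
  intro x hx
  obtain ⟨h, _⟩ := (mem_Φc U V x).1 hx
  exact h

/-- the family on the coarse space. -/
def Vc (i : ι) : Opens (Yc U) :=
  ⟨valc U ⁻¹' (U i : Set X), by
    refine TopologicalSpace.GenerateOpen.basic _ ⟨0, fun _ => i, ?_⟩
    rw [Set.iInter_const]⟩

lemma mem_iInf_Vc {n : ℕ} (a : Fin (n+1) → ι) (y : Cc U) :
    y ∈ (⨅ k, Vc U (a k) : Opens (Yc U)) ↔ ∀ k, valc U y ∈ U (a k) := by
  rw [← SetLike.mem_coe, Opens.coe_iInf, Set.mem_iInter]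
  rfl

lemma mem_iInf_U {n : ℕ} (a : Fin (n+1) → ι) (x : X) :
    x ∈ (⨅ k, U (a k) : Opens X) ↔ ∀ k, x ∈ U (a k) := by
  rw [← SetLike.mem_coe, Opens.coe_iInf, Set.mem_iInter]
  rfl

lemma hΦc (n : ℕ) (a : Fin (n+1) → ι) : (Φc U).obj (∏ᶜ (Vc U ∘ a)) = ∏ᶜ (U ∘ a) := by
  rw [prod_eq_iInf, prod_eq_iInf]
  ext x
  rw [SetLike.mem_coe, SetLike.mem_coe, mem_Φc, mem_iInf_U]
  constructor
  · rintro ⟨hx, hV⟩
    exact (mem_iInf_Vc U a _).1 hV
  · intro hx
    exact ⟨Opens.mem_iSup.2 ⟨a 0, hx 0⟩, (mem_iInf_Vc U a _).2 hx⟩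

lemma iSup_iInf_le (κ : Type u) (a : κ → Σ p : ℕ, Fin (p + 1) → ι) :
    (⨆ k, ⨅ j, U ((a k).2 j)) ≤ iSup U :=
  iSup_le fun k => (iInf_le _ ⟨0, Nat.succ_pos _⟩).trans (le_iSup U ((a k).2 ⟨0, Nat.succ_pos _⟩))

/-- every open of the coarse space is a union of finite intersections of members. -/
lemma exists_rep (V : Opens (Yc U)) : ∃ (κ : Type u) (a : κ → Σ p : ℕ, Fin (p+1) → ι),
    (Φc U).obj V = ⨆ k, ⨅ j, U ((a k).2 j) := by
  obtain ⟨S, hSB, hS⟩ := (isTopologicalBasis_basisSets U).open_eq_sUnion V.2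
  have hch : ∀ s : S, ∃ (n : ℕ) (a : Fin (n+1) → ι),
      s.1 = valc U ⁻¹' (⋂ k, (U (a k) : Set X)) := fun s => hSB s.2
  choose n a hna using hch
  refine ⟨↥S, fun s => ⟨n s, a s⟩, ?_⟩
  ext x
  rw [SetLike.mem_coe, SetLike.mem_coe, mem_Φc]
  constructor
  · rintro ⟨hx, hV⟩
    apply Opens.mem_iSup.2
    have h1 : mkc U x hx ∈ ⋃₀ S := by
      rw [← hS]
      exact hV
    obtain ⟨s, hsS, hxs⟩ := h1
    refine ⟨⟨s, hsS⟩, ?_⟩
    have hxs' : mkc U x hx ∈ valc U ⁻¹' ⋂ k, (U (a ⟨s, hsS⟩ k) : Set X) := by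
      rw [← hna ⟨s, hsS⟩]
      exact hxs
    rw [mem_iInf_U]
    exact fun j => Set.mem_iInter.1 hxs' j
  · intro hx0
    obtain ⟨s, hs⟩ := Opens.mem_iSup.1 hx0
    rw [mem_iInf_U] at hs
    have hx : x ∈ (iSup U : Opens X) := Opens.mem_iSup.2 ⟨a s 0, hs 0⟩
    refine ⟨hx, ?_⟩
    have h2 : mkc U x hx ∈ ⋃₀ S := by
      refine ⟨s.1, s.2, ?_⟩
      rw [hna s]
      exact Set.mem_iInter.2 hs
    have h3 : mkc U x hx ∈ V.carrier := by
      rw [hS]
      exact h2
    exact h3

variable (F : Sheaf (Opens.grothendieckTopology X) AddCommGrpCat.{u})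

lemma eq_map_eqToHom_map {A B : Opens X} (e : A = B) (t : F.obj.obj (op A)) :
    t = F.obj.map (eqToHom e).op (F.obj.map (eqToHom e.symm).op t) := by
  subst e
  simp

/-- the sheaf on the coarse space. -/
noncomputable def Gc : Sheaf (Opens.grothendieckTopology (Yc U)) AddCommGrpCat.{u} :=
  (SC.pushAb (gc U)).obj ((SC.resTop (isOpenEmbedding_incl U)).obj F)

lemma Gc_obj : (Gc U F).obj = (Φc U).op ⋙ F.obj := rfl

theorem isFlasque_Gc
    (h : ∀ (κ : Type u) (a : κ → Σ p : ℕ, Fin (p + 1) → ι),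
      Function.Surjective (F.obj.map (homOfLE (iSup_iInf_le U κ a)).op)) :
    TopCat.Sheaf.IsFlasque (Gc U F) where
  epi {V₁ V₂} i := by
    rw [AddCommGrpCat.epi_iff_surjective]
    intro t
    obtain ⟨κ, a, ha⟩ := exists_rep U V₂.unop
    let t₀ : F.obj.obj (op ((Φc U).obj V₂.unop)) := t
    let t' : F.obj.obj (op (⨆ k, ⨅ j, U ((a k).2 j))) :=
      F.obj.map (eqToHom ha.symm).op t₀
    obtain ⟨s, hs⟩ := h κ a t'
    refine ⟨F.obj.map (homOfLE (Φc_le U V₁.unop)).op s, ?_⟩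
    have ht : t₀ = F.obj.map (eqToHom ha).op t' := eq_map_eqToHom_map F ha t₀
    change F.obj.map ((Φc U).map i.unop).op (F.obj.map (homOfLE (Φc_le U V₁.unop)).op s) = t₀
    rw [ht, ← hs]
    rw [res_res F.obj _ _ (homOfLE (Φc_le U V₂.unop)),
      res_res F.obj _ _ (homOfLE (Φc_le U V₂.unop))]

/-- **vanishing of Čech cohomology** under the surjectivity hypothesis. -/
theorem isZero_cech_of_surjective
    (h : ∀ (κ : Type u) (a : κ → Σ p : ℕ, Fin (p + 1) → ι),
      Function.Surjective (F.obj.map (homOfLE (iSup_iInf_le U κ a)).op)) (p : ℕ) :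
    IsZero ((K U F.obj).homology (p+1)) := by
  haveI := isFlasque_Gc U F h
  have h1 := Groth.Agent.S0455.result (Gc U F) (Vc U) p
  exact isZero_homology_of_cmp (Φc U) F.obj (Vc U) U (hΦc U) p h1

end Groth.Agent.LD.CH
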