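import Groth.Agent.Lib.Lead.Cech.Basic
import Mathlib.CategoryTheory.Preadditive.Injective.Basic

/-! # Coinduced presheaves are Čech-acyclic; injective presheaves are Čech-acyclic. -/

universe u
open CategoryTheory Limits Opposite

namespace Groth.Agent.LD.CH

variable {C : Type u} [Category.{u} C]

/-- the coinduced presheaf `W ↦ ∏_{V → W} P(V)`. -/
def coind (P : Cᵒᵖ ⥤ AddCommGrpCat.{u}) : Cᵒᵖ ⥤ AddCommGrpCat.{u} where
  obj W := AddCommGrpCat.of (∀ p : (Σ V : C, V ⟶ W.unop), P.obj (op p.1))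
  map {W W'} g := AddCommGrpCat.ofHom
    { toFun := fun c p => c ⟨p.1, p.2 ≫ g.unop⟩
      map_zero' := rfl
      map_add' := fun _ _ => rfl }
  map_id W := by
    ext c p
    change c ⟨p.1, p.2 ≫ 𝟙 _⟩ = c p
    rw [Category.comp_id]
  map_comp g h := by
    ext c p
    change c ⟨p.1, p.2 ≫ (h.unop ≫ g.unop)⟩ = c ⟨p.1, (p.2 ≫ h.unop) ≫ g.unop⟩
    rw [Category.assoc]

lemma coind_map_apply (P : Cᵒᵖ ⥤ AddCommGrpCat.{u}) {W W' : Cᵒᵖ} (g : W ⟶ W')
    (c : (coind P).obj W) (p : Σ V : C, V ⟶ W'.unop) :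
    ((coind P).map g c) p = c ⟨p.1, p.2 ≫ g.unop⟩ := rfl

/-- the unit `P ⟶ coind P`. -/
def coindUnit (P : Cᵒᵖ ⥤ AddCommGrpCat.{u}) : P ⟶ coind P where
  app W := AddCommGrpCat.ofHom
    { toFun := fun s p => P.map p.2.op s
      map_zero' := by funext p; simp
      map_add' := fun s t => by funext p; simp }
  naturality W W' g := by
    ext s
    funext p
    change P.map p.2.op (P.map g s) = P.map (p.2 ≫ g.unop).op s
    rw [op_comp, Functor.map_comp]
    rfl

instance (P : Cᵒᵖ ⥤ AddCommGrpCat.{u}) : Mono (coindUnit P) := by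
  haveI : ∀ W, Mono ((coindUnit P).app W) := by
    intro W
    rw [AddCommGrpCat.mono_iff_injective]
    intro s t h
    have := congrFun h ⟨W.unop, 𝟙 _⟩
    change P.map (𝟙 W.unop).op s = P.map (𝟙 W.unop).op t at this
    simpa using this
  exact NatTrans.mono_of_mono_app _

variable [HasFiniteProducts C] {ι : Type u} (U : ι → C) (P : Cᵒᵖ ⥤ AddCommGrpCat.{u})

/-- pairs (index, map to the corresponding member). -/
abbrev Sel (V : C) : Type u := Σ i : ι, V ⟶ U i

/-- uncurried evaluation of a cochain of the coinduced presheaf. -/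
noncomputable def ev {n : ℕ} (x : Coch U (coind P) n) (V : C) (t : Fin (n+1) → Sel U V) :
    P.obj (op V) :=
  x (fun k => (t k).1) ⟨V, Pi.lift (fun k => (t k).2)⟩

lemma ev_d {n : ℕ} (x : (K U (coind P)).X n) (V : C) (t : Fin (n+2) → Sel U V) :
    ev U P (coch U (coind P) (n+1) ((K U (coind P)).d n (n+1) x)) V t =
      ∑ j : Fin (n+2), (-1 : ℤ)^(j:ℕ) • ev U P (coch U (coind P) n x) V (t ∘ j.succAbove) := by
  unfold ev
  rw [coch_d]
  erw [Finset.sum_apply]
  refine Finset.sum_congr rfl fun j _ => ?_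
  erw [Pi.smul_apply]
  congr 1
  erw [coind_map_apply]
  have h : (Pi.lift (fun k => (t k).2) : V ⟶ ∏ᶜ (U ∘ fun k => (t k).1)) ≫
      (face U (fun k => (t k).1) j) =
      (Pi.lift (fun k => ((t ∘ j.succAbove) k).2) : V ⟶ ∏ᶜ (U ∘ fun k => ((t ∘ j.succAbove) k).1)) := by
    apply Pi.hom_ext
    intro k
    erw [Category.assoc, face_π, Pi.lift_π, Pi.lift_π]
    rfl
  have key : ∀ (c : (coind P).obj (op (∏ᶜ (U ∘ fun k => ((t ∘ j.succAbove) k).1))))
      (g g' : V ⟶ ∏ᶜ (U ∘ fun k => ((t ∘ j.succAbove) k).1)), g = g' →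
      (show P.obj (op V) from c ⟨V, g⟩) = (show P.obj (op V) from c ⟨V, g'⟩) := by
    rintro c g g' rfl
    rfl
  exact key _ _ _ h

lemma cons_comp_succAbove_zero {α : Type*} {n : ℕ} (s : α) (T : Fin (n+1) → α) :
    (Fin.cons s T : Fin (n+2) → α) ∘ (0 : Fin (n+2)).succAbove = T := by
  funext k
  simp

lemma cons_comp_succAbove_succ {α : Type*} {n : ℕ} (s : α) (T : Fin (n+2) → α) (j : Fin (n+2)) :
    (Fin.cons s T : Fin (n+3) → α) ∘ j.succ.succAbove = Fin.cons s (T ∘ j.succAbove) := by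
  funext k
  refine Fin.cases ?_ (fun k => ?_) k
  · simp
  · simp

/-- a chosen element of `Sel U V`, depending only on `V`. -/
noncomputable def sel (V : C) (h : Nonempty (Sel U V)) : Sel U V := Classical.choice h

/-- the contracting homotopy. -/
noncomputable def hty {n : ℕ} (x : Coch U (coind P) (n+1)) : Coch U (coind P) n :=
  fun b p => ev U P x p.1 (Fin.cons (sel U p.1 ⟨⟨b 0, p.2 ≫ Pi.π _ 0⟩⟩)
    (fun k => (⟨b k, p.2 ≫ Pi.π _ k⟩ : Sel U p.1)))

/-- coinduced presheaves are Čech-acyclic. -/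
theorem isZero_homology_coind (n : ℕ) : IsZero ((K U (coind P)).homology (n+1)) := by
  rw [isZero_homology_succ_iff]
  intro x hx
  refine ⟨(coch U (coind P) n).symm (hty U P (coch U (coind P) (n+1) x)), ?_⟩
  apply coch_ext
  intro a
  funext p
  rw [coch_d]
  erw [Finset.sum_apply]
  simp only [AddEquiv.apply_symm_apply]
  -- the relation coming from `d x = 0`
  let s : Sel U p.1 := sel U p.1 ⟨⟨a 0, p.2 ≫ Pi.π _ 0⟩⟩
  let T : Fin (n+2) → Sel U p.1 := fun k => ⟨a k, p.2 ≫ Pi.π _ k⟩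
  have h0 := ev_d U P x p.1 (Fin.cons s T)
  rw [hx] at h0
  have hz : ev U P (coch U (coind P) (n+1+1) 0) p.1 (Fin.cons s T) = 0 := by
    rw [map_zero]
    rfl
  rw [hz, Fin.sum_univ_succ] at h0
  simp only [Fin.val_zero, pow_zero, one_smul, Fin.val_succ, cons_comp_succAbove_zero,
    cons_comp_succAbove_succ] at h0
  have hT : ev U P (coch U (coind P) (n+1) x) p.1 T = coch U (coind P) (n+1) x a p := by
    unfold ev
    have key : ∀ (c : (coind P).obj (op (∏ᶜ (U ∘ a))))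
        (g g' : p.1 ⟶ ∏ᶜ (U ∘ a)), g = g' →
        (show P.obj (op p.1) from c ⟨p.1, g⟩) = (show P.obj (op p.1) from c ⟨p.1, g'⟩) := by
      rintro c g g' rfl
      rfl
    refine key _ _ _ ?_
    apply Pi.hom_ext
    intro k
    erw [Pi.lift_π]
  rw [hT] at h0
  rw [eq_comm, ← sub_eq_zero, sub_eq_add_neg, ← Finset.sum_neg_distrib, h0]
  congr 1
  refine Finset.sum_congr rfl fun j _ => ?_
  erw [Pi.smul_apply]
  rw [pow_succ, mul_neg_one, neg_smul]
  congr 2
  erw [coind_map_apply]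
  unfold hty
  dsimp only
  congr 1
  funext k
  refine Fin.cases ?_ (fun k => ?_) k
  · rfl
  · simp only [Fin.cons_succ, Function.comp_apply]
    change (⟨a (j.succAbove k), (p.snd ≫ face U a j) ≫ Pi.π (U ∘ a ∘ j.succAbove) k⟩ : Sel U p.1) =
      ⟨a (j.succAbove k), p.snd ≫ Pi.π (U ∘ a) (j.succAbove k)⟩
    rw [Category.assoc, face_π]

/-- a retract of a Čech-acyclic presheaf is Čech-acyclic. -/
theorem isZero_homology_of_retract {P Q : Cᵒᵖ ⥤ AddCommGrpCat.{u}} (i : P ⟶ Q) (r : Q ⟶ P)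
    (h : i ≫ r = 𝟙 P) (n : ℕ) (hQ : IsZero ((K U Q).homology n)) :
    IsZero ((K U P).homology n) := by
  let F := cechComplexFunctor (A := AddCommGrpCat.{u}) U ⋙
    HomologicalComplex.homologyFunctor AddCommGrpCat.{u} (ComplexShape.up ℕ) n
  have h1 : F.map i ≫ F.map r = 𝟙 _ := by rw [← F.map_comp, h, F.map_id]
  rw [IsZero.iff_id_eq_zero]
  change 𝟙 (F.obj P) = 0
  have hQ' : IsZero (F.obj Q) := hQ
  rw [← h1, hQ'.eq_of_tgt (F.map i) 0, zero_comp]

/-- **injective presheaves are Čech-acyclic.** -/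
theorem isZero_homology_of_injective (I : Cᵒᵖ ⥤ AddCommGrpCat.{u}) [Injective I] (n : ℕ) :
    IsZero ((K U I).homology (n+1)) :=
  isZero_homology_of_retract U (coindUnit I) (Injective.factorThru (𝟙 I) (coindUnit I))
    (Injective.comp_factorThru _ _) (n+1) (isZero_homology_coind U I n)

end Groth.Agent.LD.CH
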