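import Groth.Agent.Lib.Lead.Cech.Coind
import Mathlib.CategoryTheory.Limits.Preserves.Shapes.Products

/-! # Coinduced presheaves pulled back along a product-preserving functor are Čech-acyclic. -/

universe u
open CategoryTheory Limits Opposite

namespace Groth.Agent.LD.CH

variable {C C₂ : Type u} [Category.{u} C] [Category.{u} C₂] [HasFiniteProducts C]
  (Φ : C ⥤ C₂) [PreservesFiniteProducts Φ] {ι : Type u} (U : ι → C)
  (P : C₂ᵒᵖ ⥤ AddCommGrpCat.{u})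

/-- the limit fan `Φ(∏ U∘a) → Φ(U (a k))`. -/
noncomputable def isLimΦ {n : ℕ} (a : Fin (n+1) → ι) :
    IsLimit (Fan.mk (Φ.obj (∏ᶜ (U ∘ a))) fun k => Φ.map (Pi.π (U ∘ a) k) :
      Fan fun k => Φ.obj ((U ∘ a) k)) :=
  isLimitOfHasProductOfPreservesLimit Φ (U ∘ a)

/-- lifting into `Φ(∏ U∘a)`. -/
noncomputable def liftΦ {n : ℕ} (a : Fin (n+1) → ι) {V : C₂} (g : ∀ k, V ⟶ Φ.obj (U (a k))) :
    V ⟶ Φ.obj (∏ᶜ (U ∘ a)) :=
  Fan.IsLimit.lift (isLimΦ Φ U a) g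

@[reassoc (attr := simp)]
lemma liftΦ_π {n : ℕ} (a : Fin (n+1) → ι) {V : C₂} (g : ∀ k, V ⟶ Φ.obj (U (a k))) (k : Fin (n+1)) :
    liftΦ Φ U a g ≫ Φ.map (Pi.π (U ∘ a) k) = g k :=
  Fan.IsLimit.fac (isLimΦ Φ U a) g k

lemma homΦ_ext {n : ℕ} (a : Fin (n+1) → ι) {V : C₂} (f f' : V ⟶ Φ.obj (∏ᶜ (U ∘ a)))
    (h : ∀ k, f ≫ Φ.map (Pi.π (U ∘ a) k) = f' ≫ Φ.map (Pi.π (U ∘ a) k)) : f = f' :=
  Fan.IsLimit.hom_ext (isLimΦ Φ U a) f f' h

/-- pairs (index, map to the image of the corresponding member). -/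
abbrev SelΦ (V : C₂) : Type u := Σ i : ι, V ⟶ Φ.obj (U i)

/-- uncurried evaluation of a cochain. -/
noncomputable def evΦ {n : ℕ} (x : Coch U (Φ.op ⋙ coind P) n) (V : C₂)
    (t : Fin (n+1) → SelΦ Φ U V) : P.obj (op V) :=
  x (fun k => (t k).1) ⟨V, liftΦ Φ U (fun k => (t k).1) (fun k => (t k).2)⟩

lemma coind_congr {W : C₂} (c : (coind P).obj (op W)) {V : C₂} (g g' : V ⟶ W) (h : g = g') :
    (show P.obj (op V) from c ⟨V, g⟩) = (show P.obj (op V) from c ⟨V, g'⟩) := by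
  subst h
  rfl

lemma evΦ_d {n : ℕ} (x : (K U (Φ.op ⋙ coind P)).X n) (V : C₂) (t : Fin (n+2) → SelΦ Φ U V) :
    evΦ Φ U P (coch U (Φ.op ⋙ coind P) (n+1) ((K U (Φ.op ⋙ coind P)).d n (n+1) x)) V t =
      ∑ j : Fin (n+2), (-1 : ℤ)^(j:ℕ) •
        evΦ Φ U P (coch U (Φ.op ⋙ coind P) n x) V (t ∘ j.succAbove) := by
  unfold evΦ
  rw [coch_d]
  erw [Finset.sum_apply]
  refine Finset.sum_congr rfl fun j _ => ?_
  erw [Pi.smul_apply]
  congr 1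
  erw [coind_map_apply]
  have h : liftΦ Φ U (fun k => (t k).1) (fun k => (t k).2) ≫
      Φ.map (face U (fun k => (t k).1) j) =
      liftΦ Φ U (fun k => ((t ∘ j.succAbove) k).1) (fun k => ((t ∘ j.succAbove) k).2) := by
    apply homΦ_ext
    intro k
    erw [Category.assoc, ← Φ.map_comp, face_π, liftΦ_π, liftΦ_π]
    rfl
  exact coind_congr P _ _ _ h

/-- a chosen element of `SelΦ V`, depending only on `V`. -/
noncomputable def selΦ (V : C₂) (h : Nonempty (SelΦ Φ U V)) : SelΦ Φ U V := Classical.choice h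

/-- the contracting homotopy. -/
noncomputable def htyΦ {n : ℕ} (x : Coch U (Φ.op ⋙ coind P) (n+1)) : Coch U (Φ.op ⋙ coind P) n :=
  fun b p => evΦ Φ U P x p.1 (Fin.cons (selΦ Φ U p.1 ⟨⟨b 0, p.2 ≫ Φ.map (Pi.π _ 0)⟩⟩)
    (fun k => (⟨b k, p.2 ≫ Φ.map (Pi.π _ k)⟩ : SelΦ Φ U p.1)))

/-- coinduced presheaves pulled back along `Φ` are Čech-acyclic. -/
theorem isZero_homology_coindΦ (n : ℕ) : IsZero ((K U (Φ.op ⋙ coind P)).homology (n+1)) := by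
  rw [isZero_homology_succ_iff]
  intro x hx
  refine ⟨(coch U (Φ.op ⋙ coind P) n).symm (htyΦ Φ U P (coch U (Φ.op ⋙ coind P) (n+1) x)), ?_⟩
  apply coch_ext
  intro a
  funext p
  rw [coch_d]
  erw [Finset.sum_apply]
  simp only [AddEquiv.apply_symm_apply]
  let s : SelΦ Φ U p.1 := selΦ Φ U p.1 ⟨⟨a 0, p.2 ≫ Φ.map (Pi.π _ 0)⟩⟩
  let T : Fin (n+2) → SelΦ Φ U p.1 := fun k => ⟨a k, p.2 ≫ Φ.map (Pi.π _ k)⟩
  have h0 := evΦ_d Φ U P x p.1 (Fin.cons s T)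
  rw [hx] at h0
  have hz : evΦ Φ U P (coch U (Φ.op ⋙ coind P) (n+1+1) 0) p.1 (Fin.cons s T) = 0 := by
    rw [map_zero]
    rfl
  rw [hz, Fin.sum_univ_succ] at h0
  simp only [Fin.val_zero, pow_zero, one_smul, Fin.val_succ, cons_comp_succAbove_zero,
    cons_comp_succAbove_succ] at h0
  have hT : evΦ Φ U P (coch U (Φ.op ⋙ coind P) (n+1) x) p.1 T =
      coch U (Φ.op ⋙ coind P) (n+1) x a p := by
    unfold evΦ
    refine coind_congr P _ _ _ ?_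
    apply homΦ_ext
    intro k
    erw [liftΦ_π]
  rw [hT] at h0
  rw [eq_comm, ← sub_eq_zero, sub_eq_add_neg, ← Finset.sum_neg_distrib, h0]
  congr 1
  refine Finset.sum_congr rfl fun j _ => ?_
  erw [Pi.smul_apply]
  rw [pow_succ, mul_neg_one, neg_smul]
  congr 2
  erw [coind_map_apply]
  unfold htyΦ
  dsimp only
  congr 1
  funext k
  refine Fin.cases ?_ (fun k => ?_) k
  · rfl
  · simp only [Fin.cons_succ, Function.comp_apply]
    change (⟨a (j.succAbove k), (p.snd ≫ Φ.map (face U a j)) ≫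
        Φ.map (Pi.π (U ∘ a ∘ j.succAbove) k)⟩ : SelΦ Φ U p.1) =
      ⟨a (j.succAbove k), p.snd ≫ Φ.map (Pi.π (U ∘ a) (j.succAbove k))⟩
    rw [Category.assoc, ← Φ.map_comp, face_π]

end Groth.Agent.LD.CH
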