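import Groth.Agent.Lib.Lead.Cech.TopH0

/-! # Comparison of Čech complexes along a monotone map of frames of opens preserving the
relevant finite intersections. -/

universe u
open CategoryTheory Limits Opposite TopologicalSpace

namespace Groth.Agent.LD.CH

variable {X Y : TopCat.{u}} {ι : Type u} (Φ : Opens Y ⥤ Opens X)
  (P : (Opens X)ᵒᵖ ⥤ AddCommGrpCat.{u}) (V : ι → Opens Y) (U : ι → Opens X)
  (hΦ : ∀ (n : ℕ) (a : Fin (n+1) → ι), Φ.obj (∏ᶜ (V ∘ a)) = ∏ᶜ (U ∘ a))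

/-- transport of cochains. -/
noncomputable def cmpC (n : ℕ) (c : Coch U P n) : Coch V (Φ.op ⋙ P) n :=
  fun a => P.map (eqToHom (hΦ n a)).op (c a)

/-- inverse transport of cochains. -/
noncomputable def cmpCinv (n : ℕ) (c : Coch V (Φ.op ⋙ P) n) : Coch U P n :=
  fun a => P.map (eqToHom (hΦ n a).symm).op (c a)

lemma cmpC_cmpCinv (n : ℕ) (c : Coch V (Φ.op ⋙ P) n) :
    cmpC Φ P V U hΦ n (cmpCinv Φ P V U hΦ n c) = c := by
  funext a
  change P.map _ (P.map _ (c a)) = c a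
  rw [res_res P _ _ (𝟙 _)]
  simp

/-- transport on the Čech complex. -/
noncomputable def cmp (n : ℕ) (x : (K U P).X n) : (K V (Φ.op ⋙ P)).X n :=
  (coch V (Φ.op ⋙ P) n).symm (cmpC Φ P V U hΦ n (coch U P n x))

noncomputable def cmpInv (n : ℕ) (y : (K V (Φ.op ⋙ P)).X n) : (K U P).X n :=
  (coch U P n).symm (cmpCinv Φ P V U hΦ n (coch V (Φ.op ⋙ P) n y))

lemma cmp_cmpInv (n : ℕ) (y : (K V (Φ.op ⋙ P)).X n) :
    cmp Φ P V U hΦ n (cmpInv Φ P V U hΦ n y) = y := by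
  unfold cmp cmpInv
  rw [AddEquiv.apply_symm_apply, cmpC_cmpCinv, AddEquiv.symm_apply_apply]

lemma coch_cmp (n : ℕ) (x : (K U P).X n) (a : Fin (n+1) → ι) :
    coch V (Φ.op ⋙ P) n (cmp Φ P V U hΦ n x) a = P.map (eqToHom (hΦ n a)).op (coch U P n x a) := by
  unfold cmp
  rw [AddEquiv.apply_symm_apply]
  rfl

lemma coch_cmpInv (n : ℕ) (y : (K V (Φ.op ⋙ P)).X n) (a : Fin (n+1) → ι) :
    coch U P n (cmpInv Φ P V U hΦ n y) a =
      P.map (eqToHom (hΦ n a).symm).op (coch V (Φ.op ⋙ P) n y a) := by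
  unfold cmpInv
  rw [AddEquiv.apply_symm_apply]
  rfl

lemma cmp_zero (n : ℕ) : cmp Φ P V U hΦ n 0 = 0 := by
  apply coch_ext
  intro a
  rw [coch_cmp, map_zero, map_zero]
  simp

/-- the transport commutes with the differentials. -/
lemma cmp_d (n : ℕ) (x : (K U P).X n) :
    cmp Φ P V U hΦ (n+1) ((K U P).d n (n+1) x) =
      (K V (Φ.op ⋙ P)).d n (n+1) (cmp Φ P V U hΦ n x) := by
  apply coch_ext
  intro a
  rw [coch_cmp, coch_d, coch_d, map_sum]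
  refine Finset.sum_congr rfl fun j _ => ?_
  rw [map_zsmul, coch_cmp]
  congr 1
  change P.map _ (P.map _ _) = P.map (Φ.map (face V a j)).op (P.map _ _)
  rw [res_res P _ _ (eqToHom (hΦ (n+1) a) ≫ face U a j),
    res_res P _ _ (Φ.map (face V a j) ≫ eqToHom (hΦ n (a ∘ j.succAbove)))]
  rw [Subsingleton.elim (eqToHom (hΦ (n+1) a) ≫ face U a j)
    (Φ.map (face V a j) ≫ eqToHom (hΦ n (a ∘ j.succAbove)))]

lemma cmpInv_d (n : ℕ) (y : (K V (Φ.op ⋙ P)).X n) :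
    cmpInv Φ P V U hΦ (n+1) ((K V (Φ.op ⋙ P)).d n (n+1) y) =
      (K U P).d n (n+1) (cmpInv Φ P V U hΦ n y) := by
  have h1 := cmp_d Φ P V U hΦ n (cmpInv Φ P V U hΦ n y)
  rw [cmp_cmpInv] at h1
  rw [← h1]
  unfold cmpInv cmp
  rw [AddEquiv.apply_symm_apply]
  apply coch_ext
  intro a
  rw [AddEquiv.apply_symm_apply]
  change P.map _ (P.map _ _) = _
  rw [res_res P _ _ (𝟙 _)]
  simp

include hΦ in
/-- vanishing of Čech cohomology transfers. -/
theorem isZero_homology_of_cmp (n : ℕ)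
    (h : IsZero ((K V (Φ.op ⋙ P)).homology (n+1))) : IsZero ((K U P).homology (n+1)) := by
  rw [isZero_homology_succ_iff] at h ⊢
  intro x hx
  have hx' : (K V (Φ.op ⋙ P)).d (n+1) (n+2) (cmp Φ P V U hΦ (n+1) x) = 0 := by
    rw [← cmp_d, hx, cmp_zero]
  obtain ⟨y, hy⟩ := h _ hx'
  refine ⟨cmpInv Φ P V U hΦ n y, ?_⟩
  rw [← cmpInv_d, hy]
  apply coch_ext
  intro a
  rw [coch_cmpInv, coch_cmp]
  rw [res_res P _ _ (𝟙 _)]
  simp

end Groth.Agent.LD.CH
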