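import Groth.Agent.Lib.Lead.Cech.Basic

/-! # Comparison of Čech complexes along a functor compatible with the relevant finite products. -/

universe u
open CategoryTheory Limits Opposite

namespace Groth.Agent.LD.CH

variable {C₁ C₂ : Type u} [Category.{u} C₁] [Category.{u} C₂] [HasFiniteProducts C₁]
  [HasFiniteProducts C₂] {ι : Type u} (Φ : C₁ ⥤ C₂)
  (P : C₂ᵒᵖ ⥤ AddCommGrpCat.{u}) (V : ι → C₁) (W : ι → C₂)
  (e : ∀ (n : ℕ) (a : Fin (n+1) → ι), Φ.obj (∏ᶜ (V ∘ a)) ≅ ∏ᶜ (W ∘ a))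
  (he : ∀ (n : ℕ) (a : Fin (n+2) → ι) (j : Fin (n+2)),
    Φ.map (face V a j) ≫ (e n (a ∘ j.succAbove)).hom = (e (n+1) a).hom ≫ face W a j)

/-- transport of cochains. -/
noncomputable def gcmpC (n : ℕ) (c : Coch W P n) : Coch V (Φ.op ⋙ P) n :=
  fun a => P.map (e n a).hom.op (c a)

/-- inverse transport of cochains. -/
noncomputable def gcmpCinv (n : ℕ) (c : Coch V (Φ.op ⋙ P) n) : Coch W P n :=
  fun a => P.map (e n a).inv.op (c a)

lemma map_map_apply {A B D : C₂} (f : A ⟶ B) (g : B ⟶ D) (s : P.obj (op D)) :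
    P.map f.op (P.map g.op s) = P.map (f ≫ g).op s := by
  rw [← ConcreteCategory.comp_apply, ← P.map_comp, ← op_comp]

lemma gcmpC_gcmpCinv (n : ℕ) (c : Coch V (Φ.op ⋙ P) n) :
    gcmpC Φ P V W e n (gcmpCinv Φ P V W e n c) = c := by
  funext a
  change P.map _ (P.map _ (c a)) = c a
  rw [map_map_apply, Iso.hom_inv_id]
  simp

lemma gcmpCinv_gcmpC (n : ℕ) (c : Coch W P n) :
    gcmpCinv Φ P V W e n (gcmpC Φ P V W e n c) = c := by
  funext a
  change P.map _ (P.map _ (c a)) = c a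
  rw [map_map_apply, Iso.inv_hom_id]
  simp

/-- transport on the Čech complex. -/
noncomputable def gcmp (n : ℕ) (x : (K W P).X n) : (K V (Φ.op ⋙ P)).X n :=
  (coch V (Φ.op ⋙ P) n).symm (gcmpC Φ P V W e n (coch W P n x))

noncomputable def gcmpInv (n : ℕ) (y : (K V (Φ.op ⋙ P)).X n) : (K W P).X n :=
  (coch W P n).symm (gcmpCinv Φ P V W e n (coch V (Φ.op ⋙ P) n y))

lemma gcmp_gcmpInv (n : ℕ) (y : (K V (Φ.op ⋙ P)).X n) :
    gcmp Φ P V W e n (gcmpInv Φ P V W e n y) = y := by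
  unfold gcmp gcmpInv
  rw [AddEquiv.apply_symm_apply, gcmpC_gcmpCinv, AddEquiv.symm_apply_apply]

lemma gcmpInv_gcmp (n : ℕ) (x : (K W P).X n) :
    gcmpInv Φ P V W e n (gcmp Φ P V W e n x) = x := by
  unfold gcmp gcmpInv
  rw [AddEquiv.apply_symm_apply, gcmpCinv_gcmpC, AddEquiv.symm_apply_apply]

lemma coch_gcmp (n : ℕ) (x : (K W P).X n) (a : Fin (n+1) → ι) :
    coch V (Φ.op ⋙ P) n (gcmp Φ P V W e n x) a = P.map (e n a).hom.op (coch W P n x a) := by
  unfold gcmp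
  rw [AddEquiv.apply_symm_apply]
  rfl

lemma coch_gcmpInv (n : ℕ) (y : (K V (Φ.op ⋙ P)).X n) (a : Fin (n+1) → ι) :
    coch W P n (gcmpInv Φ P V W e n y) a =
      P.map (e n a).inv.op (coch V (Φ.op ⋙ P) n y a) := by
  unfold gcmpInv
  rw [AddEquiv.apply_symm_apply]
  rfl

lemma gcmp_zero (n : ℕ) : gcmp Φ P V W e n 0 = 0 := by
  apply coch_ext
  intro a
  rw [coch_gcmp, map_zero, map_zero]
  simp

lemma gcmpInv_zero (n : ℕ) : gcmpInv Φ P V W e n 0 = 0 := by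
  apply coch_ext
  intro a
  rw [coch_gcmpInv, map_zero, map_zero]
  simp

include he in
/-- the transport commutes with the differentials. -/
lemma gcmp_d (n : ℕ) (x : (K W P).X n) :
    gcmp Φ P V W e (n+1) ((K W P).d n (n+1) x) =
      (K V (Φ.op ⋙ P)).d n (n+1) (gcmp Φ P V W e n x) := by
  apply coch_ext
  intro a
  rw [coch_gcmp, coch_d, coch_d, map_sum]
  refine Finset.sum_congr rfl fun j _ => ?_
  rw [map_zsmul, coch_gcmp]
  congr 1
  change P.map _ (P.map _ _) = P.map (Φ.map (face V a j)).op (P.map _ _)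
  rw [map_map_apply, map_map_apply, he]

include he in
lemma gcmpInv_d (n : ℕ) (y : (K V (Φ.op ⋙ P)).X n) :
    gcmpInv Φ P V W e (n+1) ((K V (Φ.op ⋙ P)).d n (n+1) y) =
      (K W P).d n (n+1) (gcmpInv Φ P V W e n y) := by
  have h1 := gcmp_d Φ P V W e he n (gcmpInv Φ P V W e n y)
  rw [gcmp_gcmpInv] at h1
  rw [← h1, gcmpInv_gcmp]

include he in
/-- vanishing of Čech cohomology transfers. -/
theorem isZero_homology_of_gcmp (n : ℕ)
    (h : IsZero ((K W P).homology (n+1))) : IsZero ((K V (Φ.op ⋙ P)).homology (n+1)) := by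
  rw [isZero_homology_succ_iff] at h ⊢
  intro x hx
  have hx' : (K W P).d (n+1) (n+2) (gcmpInv Φ P V W e (n+1) x) = 0 := by
    rw [← gcmpInv_d Φ P V W e he, hx, gcmpInv_zero]
  obtain ⟨y, hy⟩ := h _ hx'
  refine ⟨gcmp Φ P V W e n y, ?_⟩
  rw [← gcmp_d Φ P V W e he, hy, gcmp_gcmpInv]

end Groth.Agent.LD.CH
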