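import Groth.Agent.Lib.Lead.Cech.TopH0
import Mathlib.Algebra.Homology.Homotopy
import Mathlib.Algebra.Homology.Single

/-! # The Čech complex of a family containing the whole union is contractible onto `F(⋃ U)`. -/

universe u
open CategoryTheory Limits Opposite TopologicalSpace

namespace Groth.Agent.LD.CH

variable {X : TopCat.{u}} {ι : Type u} (U : ι → Opens X) (P : (Opens X)ᵒᵖ ⥤ AddCommGrpCat.{u})
  (i : ι) (hi : U i = iSup U)

include hi in
lemma prod_le_cons {n : ℕ} (a : Fin (n+1) → ι) :
    (∏ᶜ (U ∘ a) : Opens X) ≤ ∏ᶜ (U ∘ (Fin.cons i a : Fin (n+2) → ι)) := by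
  apply le_prod
  intro k
  refine Fin.cases ?_ (fun k => ?_) k
  · simp only [Fin.cons_zero]; rw [hi]; exact prod_le_iSup U a
  · simp only [Fin.cons_succ]; exact prod_le U a k

/-- the contracting homotopy on concrete cochains. -/
noncomputable def hC {n : ℕ} (c : Coch U P (n+1)) : Coch U P n :=
  fun a => P.map (homOfLE (prod_le_cons U i hi a)).op (c (Fin.cons i a))

/-- the contracting homotopy as an additive map. -/
noncomputable def hAdd (n : ℕ) : (K U P).X (n+1) →+ (K U P).X n where
  toFun x := (coch U P n).symm (hC U P i hi (coch U P (n+1) x))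
  map_zero' := by
    rw [AddEquiv.symm_apply_eq, map_zero, map_zero]
    funext a
    simp [hC]
  map_add' x y := by
    rw [AddEquiv.symm_apply_eq, map_add (coch U P n), AddEquiv.apply_symm_apply,
      AddEquiv.apply_symm_apply, map_add (coch U P (n+1))]
    funext a
    simp [hC]

lemma coch_hAdd (n : ℕ) (x : (K U P).X (n+1)) (a : Fin (n+1) → ι) :
    coch U P n (hAdd U P i hi n x) a =
      P.map (homOfLE (prod_le_cons U i hi a)).op (coch U P (n+1) x (Fin.cons i a)) := by
  change coch U P n ((coch U P n).symm _) a = _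
  rw [AddEquiv.apply_symm_apply]
  rfl

lemma add_add_eq_left_of_add_eq_zero {G : Type*} [AddCommGroup G] (A B C : G) (h : B + C = 0) :
    A + B + C = A := by
  rw [add_assoc, h, add_zero]

lemma map_id_apply' {V : Opens X} (f : V ⟶ V) (s : P.obj (op V)) : P.map f.op s = s := by
  rw [Subsingleton.elim f (𝟙 V)]
  simp

/-- the homotopy identity in positive degrees. -/
theorem hAdd_d_succ (n : ℕ) (x : (K U P).X (n+1)) :
    hAdd U P i hi (n+1) ((K U P).d (n+1) (n+2) x) +
      (K U P).d n (n+1) (hAdd U P i hi n x) = x := by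
  apply coch_ext
  intro a
  rw [map_add, Pi.add_apply, coch_hAdd, coch_d, coch_d, map_sum, Fin.sum_univ_succ]
  simp only [Fin.val_zero, pow_zero, one_smul, Fin.val_succ, map_zsmul]
  have h0 : P.map (homOfLE (prod_le_cons U i hi a)).op
      (P.map (face U (Fin.cons i a : Fin (n+3) → ι) 0).op
        (coch U P (n+1) x ((Fin.cons i a : Fin (n+3) → ι) ∘ (0 : Fin (n+3)).succAbove))) =
      coch U P (n+1) x a := by
    rw [res_res P _ _ (homOfLE (prod_le_cons U i hi a) ≫ face U (Fin.cons i a : Fin (n+3) → ι) 0),
      res_congr U P (coch U P (n+1) x) (cons_comp_succAbove_zero i a) _ (𝟙 _)]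
    exact map_id_apply' P _ _
  rw [h0]
  apply add_add_eq_left_of_add_eq_zero
  rw [← Finset.sum_add_distrib]
  refine Finset.sum_eq_zero fun j _ => ?_
  rw [coch_hAdd, pow_succ, mul_neg_one, neg_smul, neg_add_eq_zero]
  congr 1
  rw [res_res P _ _ (homOfLE (prod_le_cons U i hi a) ≫
      face U (Fin.cons i a : Fin (n+3) → ι) j.succ),
    res_res P _ _ (face U a j ≫ homOfLE (prod_le_cons U i hi (a ∘ j.succAbove)))]
  exact res_congr U P (coch U P (n+1) x) (cons_comp_succAbove_succ i a j) _ _

/-- evaluation at the distinguished index. -/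
noncomputable def evAdd : (K U P).X 0 →+ P.obj (op (iSup U)) where
  toFun x := P.map (homOfLE (le_prod U (fun _ : Fin 1 => i) (iSup U) (fun _ => hi.ge))).op
    (coch U P 0 x (fun _ => i))
  map_zero' := by simp
  map_add' x y := by simp

lemma evAdd_augHom (s : P.obj (op (iSup U))) : evAdd U P i hi (augHom U P s) = s := by
  change P.map _ (coch U P 0 (augHom U P s) _) = s
  rw [coch_augHom]
  unfold augC
  rw [res_res P _ _ (𝟙 _)]
  simp

/-- the homotopy identity in degree zero. -/
theorem hAdd_d_zero (x : (K U P).X 0) :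
    hAdd U P i hi 0 ((K U P).d 0 1 x) + augHom U P (evAdd U P i hi x) = x := by
  apply coch_ext
  intro a
  rw [map_add, Pi.add_apply, coch_hAdd, coch_d_zero, coch_augHom, map_sub]
  have h0 : P.map (homOfLE (prod_le_cons U i hi a)).op
      (P.map (face U (Fin.cons i a : Fin 2 → ι) 0).op
        (coch U P 0 x ((Fin.cons i a : Fin 2 → ι) ∘ (0 : Fin 2).succAbove))) =
      coch U P 0 x a := by
    rw [res_res P _ _ (homOfLE (prod_le_cons U i hi a) ≫ face U (Fin.cons i a : Fin 2 → ι) 0),
      res_congr U P (coch U P 0 x) (cons_comp_succAbove_zero i a) _ (𝟙 _)]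
    exact map_id_apply' P _ _
  rw [h0, sub_add_eq_add_sub, sub_eq_iff_eq_add, add_right_inj]
  unfold augC
  change P.map _ (P.map _ (coch U P 0 x _)) = _
  have e : (Fin.cons i a : Fin 2 → ι) ∘ (1 : Fin 2).succAbove = fun _ => i := by
    funext k
    fin_cases k
    rfl
  rw [res_res P _ _ (homOfLE (prod_le_iSup U a) ≫
      homOfLE (le_prod U (fun _ : Fin 1 => i) (iSup U) (fun _ => hi.ge))),
    res_res P _ _ (homOfLE (prod_le_cons U i hi a) ≫ face U (Fin.cons i a : Fin 2 → ι) 1)]
  exact res_congr U P (coch U P 0 x) e.symm _ _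

/-- the augmentation as a morphism of complexes. -/
noncomputable def homC :
    (CochainComplex.single₀ AddCommGrpCat.{u}).obj (P.obj (op (iSup U))) ⟶ K U P :=
  (CochainComplex.fromSingle₀Equiv _ _).symm ⟨AddCommGrpCat.ofHom (augHom U P), by
    ext s
    exact d_augHom U P s⟩

/-- evaluation at the distinguished index as a morphism of complexes. -/
noncomputable def invC :
    K U P ⟶ (CochainComplex.single₀ AddCommGrpCat.{u}).obj (P.obj (op (iSup U))) :=
  (CochainComplex.toSingle₀Equiv _ _).symm (AddCommGrpCat.ofHom (evAdd U P i hi))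

lemma homC_invC : homC U P ≫ invC U P i hi = 𝟙 _ := by
  apply (CochainComplex.toSingle₀Equiv _ _).injective
  change (homC U P ≫ invC U P i hi).f 0 = 𝟙 _
  rw [HomologicalComplex.comp_f]
  unfold homC invC
  rw [CochainComplex.fromSingle₀Equiv_symm_apply_f_zero,
    CochainComplex.toSingle₀Equiv_symm_apply_f_zero]
  ext s
  exact evAdd_augHom U P i hi s

/-- the family of maps underlying the contracting homotopy. -/
noncomputable def hFam (p q : ℕ) : (K U P).X p ⟶ (K U P).X q :=
  if h : q + 1 = p then eqToHom (by rw [h]) ≫ AddCommGrpCat.ofHom (hAdd U P i hi q) else 0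

lemma hFam_succ (n : ℕ) : hFam U P i hi (n+1) n = AddCommGrpCat.ofHom (hAdd U P i hi n) := by
  unfold hFam
  rw [dif_pos rfl, eqToHom_refl, Category.id_comp]
  rfl

/-- the contracting homotopy. -/
noncomputable def htpy : Homotopy (𝟙 (K U P)) (invC U P i hi ≫ homC U P) where
  hom := hFam U P i hi
  zero p q h := dif_neg h
  comm p := by
    cases p with
    | zero =>
      rw [Homotopy.dNext_cochainComplex, Homotopy.prevD_zero_cochainComplex, hFam_succ, add_zero,
        HomologicalComplex.comp_f]
      unfold homC invC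
      rw [CochainComplex.fromSingle₀Equiv_symm_apply_f_zero,
        CochainComplex.toSingle₀Equiv_symm_apply_f_zero]
      ext x
      exact (hAdd_d_zero U P i hi x).symm
    | succ n =>
      rw [Homotopy.dNext_cochainComplex, Homotopy.prevD_succ_cochainComplex, hFam_succ, hFam_succ,
        HomologicalComplex.comp_f]
      have hz : (invC U P i hi).f (n+1) = 0 := by
        unfold invC
        exact CochainComplex.toSingle₀Equiv_symm_apply_f_succ _ n
      rw [hz, zero_comp, add_zero]
      ext x
      exact (hAdd_d_succ U P i hi n x).symm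

/-- **contractibility** of the Čech complex of a family containing its union. -/
noncomputable def homotopyEquivSingle :
    HomotopyEquiv ((CochainComplex.single₀ AddCommGrpCat.{u}).obj (P.obj (op (iSup U))))
      (K U P) where
  hom := homC U P
  inv := invC U P i hi
  homotopyHomInvId := Homotopy.ofEq (homC_invC U P i hi)
  homotopyInvHomId := (htpy U P i hi).symm

end Groth.Agent.LD.CH
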