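import Groth.Agent.Lib.Lead.Cech.Coarse
import Groth.Agent.Lib.Lead.Cech.Cartan
import Groth.Agent.Lib.Lead.SC.ClosedEmb
import Mathlib.Topology.Separation.Profinite

/-! # Čech cohomology of pairwise disjoint covers vanishes; profinite spaces. -/

universe u
open CategoryTheory Limits Opposite TopologicalSpace

namespace Groth.Agent.LD.CH

variable {X : TopCat.{u}} {ι : Type u} (V : ι → Opens X)
  (F : Sheaf (Opens.grothendieckTopology X) AddCommGrpCat.{u})

/-- For a pairwise disjoint family, restriction from the union to a union of finite intersections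
is surjective. -/
theorem surjective_res_of_disjoint (hd : ∀ i j, i ≠ j → V i ⊓ V j = ⊥)
    (κ : Type u) (a : κ → Σ p : ℕ, Fin (p + 1) → ι) :
    Function.Surjective (F.obj.map (homOfLE (iSup_iInf_le V κ a)).op) := by
  classical
  intro t
  let W : Opens X := ⨆ k, ⨅ j, V ((a k).2 j)
  let t₀ : F.obj.obj (op W) := t
  let sf : ∀ i, F.obj.obj (op (V i)) := fun i =>
    if h : V i ≤ W then F.obj.map (homOfLE h).op t₀ else 0
  have hcomp : TopCat.Presheaf.IsCompatible F.obj V sf := by
    intro i j
    by_cases hij : i = j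
    · subst hij
      rw [Subsingleton.elim (Opens.infLELeft (V i) (V i)) (Opens.infLERight (V i) (V i))]
    · haveI : Subsingleton (F.obj.obj (op (V i ⊓ V j))) := SC.subsingleton_of_eq_bot F (hd i j hij)
      exact Subsingleton.elim (α := F.obj.obj (op (V i ⊓ V j))) _ _
  obtain ⟨s, hs, -⟩ := TopCat.Sheaf.existsUnique_gluing F V sf hcomp
  refine ⟨s, ?_⟩
  -- `W` is covered by the `V i` contained in it
  have hcov : W ≤ ⨆ i : {i // V i ≤ W}, V i.1 := by
    intro x hx
    obtain ⟨k, hk⟩ := Opens.mem_iSup.1 hx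
    have hk' := (mem_iInf_U V (a k).2 x).1 hk
    have hall : ∀ j, (a k).2 j = (a k).2 0 := by
      intro j
      by_contra hne
      have hbot := hd _ _ hne
      have : x ∈ V ((a k).2 j) ⊓ V ((a k).2 0) := ⟨hk' j, hk' 0⟩
      rw [hbot] at this
      exact this
    have hle : V ((a k).2 0) ≤ W := by
      refine le_trans ?_ (le_iSup _ k)
      refine le_iInf fun j => ?_
      rw [hall j]
    exact Opens.mem_iSup.2 ⟨⟨(a k).2 0, hle⟩, hk' 0⟩
  apply TopCat.Sheaf.eq_of_locally_eq' F (fun i : {i // V i ≤ W} => V i.1) W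
    (fun i => homOfLE i.2) hcov
  intro i
  have h1 := hs i.1
  change F.obj.map (homOfLE i.2).op (F.obj.map (homOfLE (iSup_iInf_le V κ a)).op s) =
    F.obj.map (homOfLE i.2).op t₀
  rw [res_res F.obj _ _ (Opens.leSupr V i.1)]
  refine h1.trans ?_
  change (if h : V i.1 ≤ W then F.obj.map (homOfLE h).op t₀ else 0) = _
  rw [dif_pos i.2]

/-- **Čech cohomology of a pairwise disjoint family vanishes.** -/
theorem isZero_cech_of_disjoint (hd : ∀ i j, i ≠ j → V i ⊓ V j = ⊥) (p : ℕ) :
    IsZero ((K V F.obj).homology (p+1)) :=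
  isZero_cech_of_surjective V F (surjective_res_of_disjoint V F hd) p

end Groth.Agent.LD.CH
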