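import Groth.Agent.Lib.Lead.Cech.SchemeNat
import Groth.Agent.Lib.Lead.QC.SubSup
import Groth.Agent.Lib.Lead.SC.RPushQC

/-! Lead: on a quasi-compact separated scheme, vanishing of `H^{p+1}` for all quasi-coherent modules
of finite type implies vanishing of `H^{p+1}` for all quasi-coherent modules (Čech cocycles have
finitely many components, each lying in a finite type quasi-coherent submodule). -/

set_option linter.style.haveILetI false
set_option linter.unusedSectionVars false
set_option linter.unusedVariables false

universe u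
open CategoryTheory Limits Opposite TopologicalSpace Abelian AlgebraicGeometry

namespace Groth.Agent.LD.CH

variable {X : Scheme.{u}}

/-- a finite nonempty intersection of affine opens of a separated scheme is affine. -/
lemma isAffineOpen_iInf_fin [X.IsSeparated] : ∀ (n : ℕ) (f : Fin (n+1) → X.Opens),
    (∀ k, IsAffineOpen (f k)) → IsAffineOpen (⨅ k, f k)
  | 0, f, h => by
    have : ⨅ k, f k = f 0 := by
      apply le_antisymm (iInf_le _ 0)
      refine le_iInf fun k => ?_
      have hk : k = 0 := Fin.ext (by omega)
      rw [hk]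
    rw [this]; exact h 0
  | n+1, f, h => by
    have e : ⨅ k, f k = f 0 ⊓ ⨅ k : Fin (n+1), f k.succ := by
      apply le_antisymm
      · exact le_inf (iInf_le _ 0) (le_iInf fun k => iInf_le _ k.succ)
      · refine le_iInf fun k => ?_
        refine Fin.cases inf_le_left (fun j => ?_) k
        exact inf_le_right.trans (iInf_le _ j)
    rw [e]
    exact (h 0).inf (isAffineOpen_iInf_fin n (fun k => f k.succ) fun k => h k.succ)

/-- **approximation by finite type submodules**: on a quasi-compact separated scheme, if
`H^{p+1}` vanishes for all quasi-coherent modules of finite type, it vanishes for all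
quasi-coherent modules. -/
theorem subsingleton_HH_of_finiteType_vanishing [CompactSpace X] [X.IsSeparated] (p : ℕ)
    (h : ∀ F : X.Modules, F.IsQuasicoherent → F.IsFiniteType → Subsingleton (Coh.HH X F (p+1)))
    (G : X.Modules) [hG : G.IsQuasicoherent] : Subsingleton (Coh.HH X G (p+1)) := by
  classical
  obtain ⟨t, ht, hsup⟩ := SC.exists_finset_affine_sup_eq (⊤ : X.Opens) isCompact_univ
  let ι : Type u := {W : X.Opens // W ∈ t}
  let U : ι → X.Opens := fun w => w.1
  haveI : Fintype ι := inferInstanceAs (Fintype {W : X.Opens // W ∈ t})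
  have haff : ∀ (n : ℕ) (a : Fin (n+1) → ι), IsAffineOpen (⨅ k, U (a k)) := fun n a =>
    isAffineOpen_iInf_fin n (fun k => U (a k)) fun k => ht _ (a k).2
  have hU : iSup U = ⊤ := by
    rw [eq_top_iff, ← hsup]
    refine Finset.sup_le fun W hW => ?_
    exact le_iSup U ⟨W, hW⟩
  have hF : ∀ F : X.Modules, F.IsQuasicoherent → F.IsFiniteType →
      IsZero ((K U F.presheaf).homology (p+1)) := by
    intro F hq hft
    haveI := hq
    haveI := h F hq hft
    haveI : Subsingleton ((K U F.presheaf).homology (p+1) : AddCommGrpCat.{u}) :=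
      (cechHHEquiv U haff hU F (p+1)).toEquiv.subsingleton
    exact AddCommGrpCat.isZero_of_subsingleton _
  suffices hz : IsZero ((K U G.presheaf).homology (p+1)) by
    haveI := AddCommGrpCat.subsingleton_of_isZero hz
    exact (cechHHEquiv U haff hU G (p+1)).symm.toEquiv.subsingleton
  rw [isZero_homology_succ_iff]
  intro w hw
  have hprod : ∀ a : Fin (p+2) → ι, IsAffineOpen (∏ᶜ (U ∘ a) : X.Opens) := by
    intro a
    rw [prod_eq_iInf (X := X.toTopCat) U a]
    exact haff (p+1) a
  obtain ⟨F, u, hu, hq, hft, hs⟩ := QC.exists_sub_finiteType_of_sections G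
    (Finset.univ : Finset (Fin (p+2) → ι)) (fun a => ⟨∏ᶜ (U ∘ a), hprod a⟩)
    (fun a => coch U G.presheaf (p+1) w a)
  haveI := hu
  haveI := hq
  choose g hg using fun a => hs a (Finset.mem_univ a)
  let φ : F.presheaf ⟶ G.presheaf := (Scheme.Modules.toPresheaf X).map u
  have hinj : ∀ n, Function.Injective (((cechComplexFunctor U).map φ).f n) := by
    intro n x x' hxx
    apply coch_ext
    intro a
    apply QC.mono_app u (∏ᶜ (U ∘ a))
    have h1 := coch_map U φ n x a
    have h2 := coch_map U φ n x' a
    exact h1.symm.trans ((congrArg (fun z => coch U G.presheaf n z a) hxx).trans h2)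
  let w' : (K U F.presheaf).X (p+1) := (coch U F.presheaf (p+1)).symm g
  have hw' : ((cechComplexFunctor U).map φ).f (p+1) w' = w := by
    apply coch_ext
    intro a
    rw [coch_map, AddEquiv.apply_symm_apply]
    exact hg a
  have hcomm : ∀ (n : ℕ) (x : (K U F.presheaf).X n),
      ((cechComplexFunctor U).map φ).f (n+1) ((K U F.presheaf).d n (n+1) x) =
        (K U G.presheaf).d n (n+1) (((cechComplexFunctor U).map φ).f n x) := by
    intro n x
    exact ConcreteCategory.congr_hom (((cechComplexFunctor U).map φ).comm n (n+1)).symm x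
  have hdw' : (K U F.presheaf).d (p+1) (p+2) w' = 0 := by
    apply hinj
    rw [hcomm, hw', hw, map_zero]
  obtain ⟨y', hy'⟩ := (isZero_homology_succ_iff U F.presheaf p).mp (hF F hq hft) w' hdw'
  exact ⟨((cechComplexFunctor U).map φ).f p y', by rw [← hcomm, hy', hw']⟩

end Groth.Agent.LD.CH
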