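import Groth.Agent.Lib.Lead.Cech.Basic
import Mathlib.CategoryTheory.Limits.Preserves.Shapes.Products
import Mathlib.CategoryTheory.Preadditive.AdditiveFunctor

/-! # Čech complexes with values in a preadditive category, and their images under
product-preserving additive functors to abelian groups. -/

universe u v' u'
open CategoryTheory Limits Opposite

namespace Groth.Agent.LD.CH

section GenA
variable {C : Type u} [Category.{u} C] [HasFiniteProducts C] {ι : Type u} (U : ι → C)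
  {A : Type u'} [Category.{v'} A] [Preadditive A] [HasProducts.{u} A] (P : Cᵒᵖ ⥤ A)

/-- the Čech complex with values in `A`. -/
noncomputable abbrev KA : CochainComplex A ℕ := (cechComplexFunctor U).obj P

/-- the projections of the terms. -/
noncomputable def πA (n : ℕ) (a : Fin (n+1) → ι) : (KA U P).X n ⟶ P.obj (op (∏ᶜ (U ∘ a))) :=
  Pi.π (fun (b : Fin (n+1) → ι) => P.obj (op (∏ᶜ (U ∘ b)))) a

lemma homA_ext {Z : A} {n : ℕ} (f g : Z ⟶ (KA U P).X n)
    (h : ∀ a, f ≫ πA U P n a = g ≫ πA U P n a) : f = g :=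
  Pi.hom_ext (f := fun (b : Fin (n+1) → ι) => P.obj (op (∏ᶜ (U ∘ b)))) _ _ h

/-- the coface maps. -/
noncomputable def cofaceA (n : ℕ) (i : Fin (n+2)) : (KA U P).X n ⟶ (KA U P).X (n+1) :=
  Pi.lift fun (a : Fin (n+2) → ι) =>
    Pi.π (fun (b : Fin (n+1) → ι) => P.obj (op (∏ᶜ (U ∘ b)))) (a ∘ i.succAbove) ≫
      P.map (face U a i).op

open AlgebraicTopology in
lemma dA_eq (n : ℕ) :
    (KA U P).d n (n+1) = ∑ i : Fin (n+2), (-1 : ℤ)^(i:ℕ) • cofaceA U P n i := by
  let Z := (FormalCoproduct.cosimplicialObjectFunctor (FormalCoproduct.mk _ U).cech).obj P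
  have h1 : (KA U P).d n (n+1) = AlternatingCofaceMapComplex.objD Z n :=
    CochainComplex.of_d (fun n => Z.obj (SimplexCategory.mk n))
      (AlternatingCofaceMapComplex.objD Z) n
  rw [h1]
  rfl

lemma cofaceA_π (n : ℕ) (i : Fin (n+2)) (a : Fin (n+2) → ι) :
    cofaceA U P n i ≫ πA U P (n+1) a =
      πA U P n (a ∘ i.succAbove) ≫ P.map (face U a i).op :=
  Pi.lift_π _ a

lemma dA_π (n : ℕ) (a : Fin (n+2) → ι) :
    (KA U P).d n (n+1) ≫ πA U P (n+1) a =
      ∑ i : Fin (n+2), (-1 : ℤ)^(i:ℕ) •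
        (πA U P n (a ∘ i.succAbove) ≫ P.map (face U a i).op) := by
  rw [dA_eq, Preadditive.sum_comp]
  refine Finset.sum_congr rfl fun i _ => ?_
  rw [Preadditive.zsmul_comp, cofaceA_π]

variable (G : A ⥤ AddCommGrpCat.{u}) [PreservesLimitsOfSize.{u, u} G]

/-- the image of the terms: `G(Čⁿ(U, P)) ≅ Čⁿ(U, P ⋙ G)`. -/
noncomputable def secIso (n : ℕ) : G.obj ((KA U P).X n) ≅ (K U (P ⋙ G)).X n :=
  PreservesProduct.iso G (fun (a : Fin (n+1) → ι) => P.obj (op (∏ᶜ (U ∘ a))))

lemma secIso_hom_π (n : ℕ) (a : Fin (n+1) → ι) :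
    (secIso U P G n).hom ≫ πA U (P ⋙ G) n a = G.map (πA U P n a) := by
  unfold secIso πA
  rw [PreservesProduct.iso_hom]
  exact piComparison_comp_π G _ a

variable [G.Additive]

lemma secIso_coface (n : ℕ) (i : Fin (n+2)) :
    G.map (cofaceA U P n i) ≫ (secIso U P G (n+1)).hom =
      (secIso U P G n).hom ≫ cofaceA U (P ⋙ G) n i := by
  refine homA_ext U (P ⋙ G) _ _ fun a => ?_
  rw [Category.assoc, Category.assoc, secIso_hom_π, ← G.map_comp, cofaceA_π, cofaceA_π,
    G.map_comp, ← Category.assoc, secIso_hom_π]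
  rfl

lemma secIso_d (n : ℕ) :
    G.map ((KA U P).d n (n+1)) ≫ (secIso U P G (n+1)).hom =
      (secIso U P G n).hom ≫ (K U (P ⋙ G)).d n (n+1) := by
  rw [dA_eq, dA_eq U (P ⋙ G), G.map_sum, Preadditive.sum_comp, Preadditive.comp_sum]
  refine Finset.sum_congr rfl fun i _ => ?_
  rw [G.map_zsmul, Preadditive.zsmul_comp, Preadditive.comp_zsmul, secIso_coface]

lemma coch_eq_πA {Q : Cᵒᵖ ⥤ AddCommGrpCat.{u}} (n : ℕ) (x : (K U Q).X n) (a : Fin (n+1) → ι) :
    coch U Q n x a = πA U Q n a x :=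
  coch_apply U Q n x a

omit [G.Additive] in
lemma coch_secIso (n : ℕ) (x : G.obj ((KA U P).X n)) (a : Fin (n+1) → ι) :
    coch U (P ⋙ G) n ((secIso U P G n).hom x) a = G.map (πA U P n a) x := by
  rw [coch_eq_πA]
  exact ConcreteCategory.congr_hom (secIso_hom_π U P G n a) x

lemma secIso_d_apply (n : ℕ) (x : G.obj ((KA U P).X n)) :
    (secIso U P G (n+1)).hom (G.map ((KA U P).d n (n+1)) x) =
      (K U (P ⋙ G)).d n (n+1) ((secIso U P G n).hom x) :=
  ConcreteCategory.congr_hom (secIso_d U P G n) x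

omit [G.Additive] in
/-- elements of `G(Čⁿ(U, P))` are determined by their components. -/
lemma sec_ext (n : ℕ) (x y : G.obj ((KA U P).X n))
    (h : ∀ a : Fin (n+1) → ι, G.map (πA U P n a) x = G.map (πA U P n a) y) : x = y := by
  have h1 : (secIso U P G n).hom x = (secIso U P G n).hom y := by
    apply coch_ext
    intro a
    rw [coch_secIso, coch_secIso, h a]
  have h2 := congrArg (fun z => (secIso U P G n).inv z) h1
  simpa using h2

/-- exactness of `G(Č(U,P))` in positive degrees from that of `Č(U, P ⋙ G)`. -/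
lemma exists_preimage_of_isZero (n : ℕ) (h : IsZero ((K U (P ⋙ G)).homology (n+1)))
    (x : G.obj ((KA U P).X (n+1))) (hx : G.map ((KA U P).d (n+1) (n+2)) x = 0) :
    ∃ y : G.obj ((KA U P).X n), G.map ((KA U P).d n (n+1)) y = x := by
  rw [isZero_homology_succ_iff] at h
  obtain ⟨y, hy⟩ := h ((secIso U P G (n+1)).hom x) (by rw [← secIso_d_apply, hx, map_zero])
  refine ⟨(secIso U P G n).inv y, ?_⟩
  have h1 : (secIso U P G (n+1)).hom (G.map ((KA U P).d n (n+1)) ((secIso U P G n).inv y)) =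
      (secIso U P G (n+1)).hom x := by
    rw [secIso_d_apply, Iso.inv_hom_id_apply, hy]
  have h2 := congrArg (fun z => (secIso U P G (n+1)).inv z) h1
  simpa using h2

end GenA

end Groth.Agent.LD.CH
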