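import Groth.Agent.Lib.Lead.Cech.Leray
import Mathlib.Algebra.Homology.HomologySequenceLemmas

/-! # Leray's theorem, natural form.

A family of additive isomorphisms `Ȟ^p(U, F) ≃+ Ext^p(ℤ_{⋃ U}, F)` for Čech-acyclic sheaves `F`,
natural in `F`. -/

universe u
open CategoryTheory Limits Opposite TopologicalSpace Abelian

namespace Groth.Agent.LD.CH

/-- the isomorphism between the targets of two surjections with the same kernel. -/
noncomputable def equivOfSurj {A B C' : Type*} [AddCommGroup A] [AddCommGroup B] [AddCommGroup C']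
    (f1 : A →+ B) (f2 : A →+ C') (h1 : Function.Surjective f1) (h2 : Function.Surjective f2)
    (hk : f1.ker = f2.ker) : B ≃+ C' :=
  (QuotientAddGroup.quotientKerEquivOfSurjective f1 h1).symm.trans
    ((QuotientAddGroup.quotientAddEquivOfEq hk).trans
      (QuotientAddGroup.quotientKerEquivOfSurjective f2 h2))

lemma equivOfSurj_apply {A B C' : Type*} [AddCommGroup A] [AddCommGroup B] [AddCommGroup C']
    (f1 : A →+ B) (f2 : A →+ C') (h1 : Function.Surjective f1) (h2 : Function.Surjective f2)
    (hk : f1.ker = f2.ker) (a : A) : equivOfSurj f1 f2 h1 h2 hk (f1 a) = f2 a := by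
  have : (QuotientAddGroup.quotientKerEquivOfSurjective f1 h1).symm (f1 a) =
      (QuotientAddGroup.mk a : A ⧸ f1.ker) := by
    rw [AddEquiv.symm_apply_eq]
    rfl
  change (QuotientAddGroup.quotientKerEquivOfSurjective f2 h2)
    ((QuotientAddGroup.quotientAddEquivOfEq hk)
      ((QuotientAddGroup.quotientKerEquivOfSurjective f1 h1).symm (f1 a))) = f2 a
  rw [this]
  rfl

variable {X : TopCat.{u}} {ι : Type u} (U : ι → Opens X)


/-- acyclicity of a sheaf on all finite intersections of members of the family. -/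
def Acyc (F : Sheaf (Opens.grothendieckTopology X) AddCommGrpCat.{u}) : Prop :=
  ∀ (n : ℕ) (a : Fin (n+1) → ι) (q : ℕ),
    Subsingleton (Ext (SC.ZU (Opens.grothendieckTopology X) (∏ᶜ (U ∘ a))) F (q+1))

lemma acyc_injective (I : Sheaf (Opens.grothendieckTopology X) AddCommGrpCat.{u}) [Injective I] : Acyc U I :=
  fun _ _ q => subsingleton_ext_injective _ _ q

lemma acyc_X₃ (F : Sheaf (Opens.grothendieckTopology X) AddCommGrpCat.{u}) (h : Acyc U F) : Acyc U (injSeq F).X₃ :=
  fun n a q => SC.subsingleton_ext_of_shortExact₃ (injSeq_shortExact F) _ (q+1)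
    (subsingleton_ext_injective _ _ q) (h n a (q+1))

lemma cech_shortExact (F : Sheaf (Opens.grothendieckTopology X) AddCommGrpCat.{u}) (h : Acyc U F) :
    ((injSeq F).map (Φ (Opens.grothendieckTopology X) U)).ShortExact :=
  shortExact_cech U (injSeq_shortExact F)
    (fun n a => SC.surjective_app_of_subsingleton_ext1 (injSeq_shortExact F) _ (h n a 0))

/-- a morphism of sheaves lifts to the standard injective short exact sequences. -/
noncomputable def injSeqMap {F G : Sheaf (Opens.grothendieckTopology X) AddCommGrpCat.{u}} (φ : F ⟶ G) :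
    injSeq F ⟶ injSeq G where
  τ₁ := φ
  τ₂ := Injective.factorThru (φ ≫ Injective.ι G) (Injective.ι F)
  τ₃ := cokernel.map (Injective.ι F) (Injective.ι G) φ
    (Injective.factorThru (φ ≫ Injective.ι G) (Injective.ι F))
    (Injective.comp_factorThru _ _)
  comm₁₂ := (Injective.comp_factorThru _ _).symm
  comm₂₃ := by
    change _ ≫ cokernel.π (Injective.ι G) =
      cokernel.π (Injective.ι F) ≫ cokernel.map (Injective.ι F) (Injective.ι G) _ _ _
    rw [cokernel.π_desc]

@[simp] lemma injSeqMap_τ₁ {F G : Sheaf (Opens.grothendieckTopology X) AddCommGrpCat.{u}} (φ : F ⟶ G) :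
    (injSeqMap φ).τ₁ = φ := rfl

section Step

variable (p : ℕ)
  (e : ∀ (F : Sheaf (Opens.grothendieckTopology X) AddCommGrpCat.{u}), Acyc U F →
    (((K U F.obj).homology p : AddCommGrpCat.{u}) ≃+ Ext (SC.ZU (Opens.grothendieckTopology X) (iSup U)) F p))

/-- the Čech connecting map. -/
noncomputable def stepF1 (F : Sheaf (Opens.grothendieckTopology X) AddCommGrpCat.{u}) (h : Acyc U F) :
    ((K U (injSeq F).X₃.obj).homology p : AddCommGrpCat.{u}) →+
      ((K U F.obj).homology (p+1) : AddCommGrpCat.{u}) :=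
  ((cech_shortExact U F h).δ p (p+1) rfl).hom

/-- the `Ext` connecting map, transported. -/
noncomputable def stepF2 (F : Sheaf (Opens.grothendieckTopology X) AddCommGrpCat.{u}) (h : Acyc U F) :
    ((K U (injSeq F).X₃.obj).homology p : AddCommGrpCat.{u}) →+
      Ext (SC.ZU (Opens.grothendieckTopology X) (iSup U)) F (p+1) :=
  ((injSeq_shortExact F).extClass.postcomp (SC.ZU (Opens.grothendieckTopology X) (iSup U)) (rfl : p + 1 = p + 1)).comp
    (e (injSeq F).X₃ (acyc_X₃ U F h)).toAddMonoidHom

lemma stepF2_apply (F : Sheaf (Opens.grothendieckTopology X) AddCommGrpCat.{u}) (h : Acyc U F)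
    (y : ((K U (injSeq F).X₃.obj).homology p : AddCommGrpCat.{u})) :
    stepF2 U p e F h y = (e (injSeq F).X₃ (acyc_X₃ U F h) y).comp (injSeq_shortExact F).extClass
      (rfl : p + 1 = p + 1) := rfl

lemma stepF1_surjective (F : Sheaf (Opens.grothendieckTopology X) AddCommGrpCat.{u}) (h : Acyc U F) :
    Function.Surjective (stepF1 U p F h) := by
  have hI : IsZero ((K U (injSeq F).X₂.obj).homology (p+1)) :=
    isZero_cech_of_injective U (injSeq F).X₂ p
  haveI := (cech_shortExact U F h).epi_δ p (p+1) rfl hI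
  exact (AddCommGrpCat.epi_iff_surjective _).1 inferInstance

lemma stepF2_surjective (F : Sheaf (Opens.grothendieckTopology X) AddCommGrpCat.{u}) (h : Acyc U F) :
    Function.Surjective (stepF2 U p e F h) := by
  intro ξ
  haveI := subsingleton_ext_injective (SC.ZU (Opens.grothendieckTopology X) (iSup U)) (injSeq F).X₂ p
  obtain ⟨x, hx⟩ := Ext.covariant_sequence_exact₁ (SC.ZU (Opens.grothendieckTopology X) (iSup U)) (injSeq_shortExact F) ξ
    (Subsingleton.elim _ _) rfl
  refine ⟨(e (injSeq F).X₃ (acyc_X₃ U F h)).symm x, ?_⟩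
  rw [stepF2_apply, AddEquiv.apply_symm_apply]
  exact hx

lemma stepF1_ker (F : Sheaf (Opens.grothendieckTopology X) AddCommGrpCat.{u}) (h : Acyc U F) :
    (stepF1 U p F h).ker =
      (HomologicalComplex.homologyMap ((Φ (Opens.grothendieckTopology X) U).map (injSeq F).g) p).hom.range := by
  have hC := cech_shortExact U F h
  have hex := hC.homology_exact₃ p (p+1) rfl
  rw [ShortComplex.ab_exact_iff] at hex
  ext z
  rw [AddMonoidHom.mem_ker, AddMonoidHom.mem_range]
  constructor
  · intro hz
    exact hex z hz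
  · rintro ⟨w, rfl⟩
    exact ConcreteCategory.congr_hom (hC.comp_δ p (p+1) rfl) w

variable (he : ∀ (F G : Sheaf (Opens.grothendieckTopology X) AddCommGrpCat.{u}) (hF : Acyc U F) (hG : Acyc U G) (φ : F ⟶ G)
    (x : ((K U F.obj).homology p : AddCommGrpCat.{u})),
    e G hG ((HomologicalComplex.homologyMap ((Φ (Opens.grothendieckTopology X) U).map φ) p).hom x) =
      (e F hF x).comp (Ext.mk₀ φ) (add_zero p))

include he in
lemma stepF2_ker (F : Sheaf (Opens.grothendieckTopology X) AddCommGrpCat.{u}) (h : Acyc U F) :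
    (stepF2 U p e F h).ker =
      (HomologicalComplex.homologyMap ((Φ (Opens.grothendieckTopology X) U).map (injSeq F).g) p).hom.range := by
  have hS := injSeq_shortExact F
  ext z
  rw [AddMonoidHom.mem_ker, AddMonoidHom.mem_range, stepF2_apply]
  constructor
  · intro hz
    obtain ⟨y, hy⟩ := Ext.covariant_sequence_exact₃ (SC.ZU (Opens.grothendieckTopology X) (iSup U)) hS _ rfl hz
    refine ⟨(e (injSeq F).X₂ (acyc_injective U _)).symm y, ?_⟩
    apply (e (injSeq F).X₃ (acyc_X₃ U F h)).injective
    rw [he _ _ (acyc_injective U _) (acyc_X₃ U F h), AddEquiv.apply_symm_apply]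
    exact hy
  · rintro ⟨w, rfl⟩
    rw [he _ _ (acyc_injective U _) (acyc_X₃ U F h),
      Ext.comp_assoc_of_second_deg_zero, hS.comp_extClass, Ext.comp_zero]

/-- the next isomorphism. -/
noncomputable def stepEquiv (F : Sheaf (Opens.grothendieckTopology X) AddCommGrpCat.{u}) (h : Acyc U F) :
    ((K U F.obj).homology (p+1) : AddCommGrpCat.{u}) ≃+ Ext (SC.ZU (Opens.grothendieckTopology X) (iSup U)) F (p+1) :=
  equivOfSurj (stepF1 U p F h) (stepF2 U p e F h) (stepF1_surjective U p F h)
    (stepF2_surjective U p e F h) ((stepF1_ker U p F h).trans (stepF2_ker U p e he F h).symm)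

lemma stepEquiv_apply (F : Sheaf (Opens.grothendieckTopology X) AddCommGrpCat.{u}) (h : Acyc U F)
    (y : ((K U (injSeq F).X₃.obj).homology p : AddCommGrpCat.{u})) :
    stepEquiv U p e he F h (stepF1 U p F h y) = stepF2 U p e F h y :=
  equivOfSurj_apply _ _ _ _ _ y

lemma stepF1_naturality {F G : Sheaf (Opens.grothendieckTopology X) AddCommGrpCat.{u}} (hF : Acyc U F) (hG : Acyc U G)
    (φ : F ⟶ G) (y : ((K U (injSeq F).X₃.obj).homology p : AddCommGrpCat.{u})) :
    (HomologicalComplex.homologyMap ((Φ (Opens.grothendieckTopology X) U).map φ) (p+1)).hom (stepF1 U p F hF y) =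
      stepF1 U p G hG
        ((HomologicalComplex.homologyMap ((Φ (Opens.grothendieckTopology X) U).map (injSeqMap φ).τ₃) p).hom y) := by
  have := HomologicalComplex.HomologySequence.δ_naturality
    ((Φ (Opens.grothendieckTopology X) U).mapShortComplex.map (injSeqMap φ)) (cech_shortExact U F hF)
    (cech_shortExact U G hG) p (p+1) rfl
  exact ConcreteCategory.congr_hom this y

lemma stepEquiv_naturality {F G : Sheaf (Opens.grothendieckTopology X) AddCommGrpCat.{u}} (hF : Acyc U F) (hG : Acyc U G)
    (φ : F ⟶ G) (x : ((K U F.obj).homology (p+1) : AddCommGrpCat.{u})) :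
    stepEquiv U p e he G hG ((HomologicalComplex.homologyMap ((Φ (Opens.grothendieckTopology X) U).map φ) (p+1)).hom x) =
      (stepEquiv U p e he F hF x).comp (Ext.mk₀ φ) (add_zero (p+1)) := by
  obtain ⟨y, rfl⟩ := stepF1_surjective U p F hF x
  rw [stepF1_naturality U p hF hG φ y, stepEquiv_apply, stepEquiv_apply, stepF2_apply,
    stepF2_apply, he _ _ (acyc_X₃ U F hF) (acyc_X₃ U G hG)]
  have hnat := ShortComplex.ShortExact.extClass_naturality (injSeq_shortExact F)
    (injSeq_shortExact G) (injSeqMap φ)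
  rw [Ext.comp_assoc_of_second_deg_zero, ← hnat]
  exact (Ext.comp_assoc_of_third_deg_zero _ _ _ _).symm

end Step

/-- existence of a natural family of Leray isomorphisms. -/
theorem exists_lerayNat (p : ℕ) :
    ∃ e : ∀ (F : Sheaf (Opens.grothendieckTopology X) AddCommGrpCat.{u}), Acyc U F →
      (((K U F.obj).homology p : AddCommGrpCat.{u}) ≃+
        Ext (SC.ZU (Opens.grothendieckTopology X) (iSup U)) F p),
      ∀ (F G : Sheaf (Opens.grothendieckTopology X) AddCommGrpCat.{u}) (hF : Acyc U F)
        (hG : Acyc U G) (φ : F ⟶ G) (x : ((K U F.obj).homology p : AddCommGrpCat.{u})),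
        e G hG ((HomologicalComplex.homologyMap
          ((Φ (Opens.grothendieckTopology X) U).map φ) p).hom x) =
          (e F hF x).comp (Ext.mk₀ φ) (add_zero p) := by
  induction p with
  | zero =>
    refine ⟨fun F _ => (topH0Equiv U F).trans (SC.H0Equiv (iSup U) F).symm, ?_⟩
    intro F G _ _ φ x
    change (SC.H0Equiv (iSup U) G).symm (topH0Equiv U G _) =
      ((SC.H0Equiv (iSup U) F).symm (topH0Equiv U F x)).comp (Ext.mk₀ φ) (add_zero 0)
    rw [AddEquiv.symm_apply_eq, SC.H0Equiv_comp, AddEquiv.apply_symm_apply]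
    exact topH0Equiv_naturality U φ x
  | succ p ih =>
    obtain ⟨e, he⟩ := ih
    exact ⟨stepEquiv U p e he, fun F G hF hG φ x => stepEquiv_naturality U p e he hF hG φ x⟩

/-- **Leray's isomorphism**, as a definite family of maps. -/
noncomputable def lerayEquiv (p : ℕ) (F : Sheaf (Opens.grothendieckTopology X) AddCommGrpCat.{u})
    (h : Acyc U F) : ((K U F.obj).homology p : AddCommGrpCat.{u}) ≃+
      Ext (SC.ZU (Opens.grothendieckTopology X) (iSup U)) F p :=
  (exists_lerayNat U p).choose F h

/-- naturality of Leray's isomorphism. -/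
theorem lerayEquiv_naturality (p : ℕ)
    {F G : Sheaf (Opens.grothendieckTopology X) AddCommGrpCat.{u}} (hF : Acyc U F)
    (hG : Acyc U G) (φ : F ⟶ G) (x : ((K U F.obj).homology p : AddCommGrpCat.{u})) :
    lerayEquiv U p G hG ((HomologicalComplex.homologyMap
      ((Φ (Opens.grothendieckTopology X) U).map φ) p).hom x) =
      (lerayEquiv U p F hF x).comp (Ext.mk₀ φ) (add_zero p) :=
  (exists_lerayNat U p).choose_spec F G hF hG φ x

end Groth.Agent.LD.CH
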