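import Groth.Agent.Lib.Lead.Cech.Disjoint

/-! # Profinite spaces have no higher sheaf cohomology. -/

universe u
open CategoryTheory Limits Opposite TopologicalSpace

namespace Groth.Agent.LD.CH

variable {X : TopCat.{u}}

/-- the class of covers: pairwise disjoint clopen families with clopen union. -/
def DisjClopenCov (ι : Type u) (V : ι → Opens X) : Prop :=
  (∀ i, IsClopen (V i : Set X)) ∧ IsClopen ((iSup V : Opens X) : Set X) ∧
    ∀ i j, i ≠ j → V i ⊓ V j = ⊥

theorem exists_disjoint_clopen_refinement [CompactSpace X] [T2Space X]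
    [TotallyDisconnectedSpace X] (U : Opens X) (hU : IsClopen (U : Set X)) (κ : Type u)
    (W : κ → Opens X) (hW : iSup W = U) :
    ∃ (ι : Type u) (V : ι → Opens X), DisjClopenCov ι V ∧ iSup V = U ∧ ∀ i, ∃ k, V i ≤ W k := by
  classical
  have hmem : ∀ x : U, ∃ k, x.1 ∈ W k := by
    intro x
    have hx : x.1 ∈ iSup W := by rw [hW]; exact x.2
    exact Opens.mem_iSup.1 hx
  choose k hk using hmem
  have hD : ∀ x : U, ∃ D : Set X, IsClopen D ∧ x.1 ∈ D ∧ D ⊆ (W (k x) : Set X) := fun x =>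
    compact_exists_isClopen_in_isOpen (W (k x)).2 (hk x)
  choose D hDc hDx hDW using hD
  have hcov : (U : Set X) ⊆ ⋃ x : U, D x := fun x hx => Set.mem_iUnion.2 ⟨⟨x, hx⟩, hDx ⟨x, hx⟩⟩
  obtain ⟨t, ht⟩ := hU.1.isCompact.elim_finite_subcover D (fun x => (hDc x).2) hcov
  obtain ⟨C, hCc, -, hCD, hDC, hCdisj⟩ :=
    exists_clopen_partition_of_clopen_cover (I := ↥t) (Z := fun _ => (∅ : Set X))
      (D := fun i => D i.1) (fun _ => isClosed_empty) (fun i => hDc i.1)
      (fun _ => Set.empty_subset _) (fun i _ j _ _ => by simp [Function.onFun])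
  have hWU : ∀ j, W j ≤ U := fun j => hW ▸ le_iSup W j
  refine ⟨↥t, fun i => ⟨C i, (hCc i).2⟩, ?_, ?_, ?_⟩
  · have hsup : ((iSup fun i : ↥t => (⟨C i, (hCc i).2⟩ : Opens X) : Opens X) : Set X) = ⋃ i, C i := by
      rw [Opens.coe_iSup]
      rfl
    refine ⟨fun i => hCc i, ?_, ?_⟩
    · rw [hsup]
      exact isClopen_iUnion_of_finite hCc
    · intro i j hij
      have hdisj : Disjoint (C i) (C j) := hCdisj (Set.mem_univ i) (Set.mem_univ j) hij
      ext x
      simp only [Opens.coe_inf, Opens.coe_mk, Opens.coe_bot, Set.mem_inter_iff, Set.mem_empty_iff_false,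
        iff_false, not_and]
      intro h1 h2
      exact Set.disjoint_left.1 hdisj h1 h2
  · apply le_antisymm
    · refine iSup_le fun i => ?_
      intro x hx
      exact hWU _ (hDW i.1 (hCD i hx))
    · intro x hx
      have h1 := ht hx
      obtain ⟨y, hy⟩ := Set.mem_iUnion.1 h1
      obtain ⟨hyt, hxD⟩ := Set.mem_iUnion.1 hy
      have h2 : x ∈ ⋃ i : ↥t, D i.1 := Set.mem_iUnion.2 ⟨⟨y, hyt⟩, hxD⟩
      obtain ⟨i, hi⟩ := Set.mem_iUnion.1 (hDC h2)
      exact Opens.mem_iSup.2 ⟨i, hi⟩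
  · intro i
    exact ⟨k i.1, fun x hx => hDW i.1 (hCD i hx)⟩

/-- **Profinite spaces**: `Extⁿ⁺¹(ℤ_U, F) = 0` for clopen `U`. -/
theorem subsingleton_ext_of_profinite [CompactSpace X] [T2Space X] [TotallyDisconnectedSpace X]
    (F : Sheaf (Opens.grothendieckTopology X) AddCommGrpCat.{u}) (p : ℕ) (U : Opens X)
    (hU : IsClopen (U : Set X)) :
    Subsingleton (Abelian.Ext (SC.ZU (Opens.grothendieckTopology X) U) F (p + 1)) := by
  refine cartan {U : Opens X | IsClopen (U : Set X)} DisjClopenCov ?_ ?_ p F ?_ U hU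
  · intro ι V hV
    refine ⟨hV.2.1, fun p a => ?_⟩
    change IsClopen ((⨅ k, V (a k) : Opens X) : Set X)
    rw [Opens.coe_iInf]
    exact isClopen_iInter_of_finite fun k => hV.1 (a k)
  · intro U hU κ W hW
    exact exists_disjoint_clopen_refinement U hU κ W hW
  · intro ι V hV p
    exact isZero_cech_of_disjoint V F hV.2.2 p

end Groth.Agent.LD.CH
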