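import Groth.Agent.Lib.Lead.Cech.Cone

/-! # Vanishing of Čech cohomology from a family of "coordinate projections".

Abstract form of the classical computation of the cohomology of projective space: all groups of
sections `P(U_a)` embed compatibly in one group `G` (`θ`), and there are endomorphisms `ρ v` of `G`
(`v : ι`) such that `ρ v` carries sections over `U_v ∩ U_a` to sections over `U_a`, and
`∑ v, ρ v = id` on the sections over `(p+2)`-fold intersections. Then `Ȟ^{p+1}(U, P) = 0`. -/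

universe u
open CategoryTheory Limits Opposite TopologicalSpace

namespace Groth.Agent.LD.CH

variable {X : TopCat.{u}} {ι : Type u} [Fintype ι] (U : ι → Opens X)
  (P : (Opens X)ᵒᵖ ⥤ AddCommGrpCat.{u}) {G : Type*} [AddCommGroup G]
  (θ : ∀ (n : ℕ) (a : Fin (n+1) → ι), P.obj (op (∏ᶜ (U ∘ a))) →+ G)

include θ in
/-- **Čech vanishing from coordinate projections.** -/
theorem isZero_homology_of_projections
    (hinj : ∀ (n : ℕ) (a : Fin (n+1) → ι), Function.Injective (θ n a))
    (hres : ∀ (m : ℕ) (b : Fin (m+2) → ι) (i : Fin (m+2))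
      (s : P.obj (op (∏ᶜ (U ∘ b ∘ i.succAbove)))),
      θ (m+1) b (P.map (face U b i).op s) = θ m (b ∘ i.succAbove) s)
    (ρ : ι → G →+ G)
    (hρ : ∀ (n : ℕ) (v : ι) (a : Fin (n+1) → ι)
      (y : P.obj (op (∏ᶜ (U ∘ (Fin.cons v a : Fin (n+2) → ι))))),
      ∃ s : P.obj (op (∏ᶜ (U ∘ a))), θ n a s = ρ v (θ (n+1) (Fin.cons v a) y))
    (p : ℕ)
    (hsum : ∀ (a : Fin (p+2) → ι) (s : P.obj (op (∏ᶜ (U ∘ a)))),
      ∑ v, ρ v (θ (p+1) a s) = θ (p+1) a s) :
    IsZero ((K U P).homology (p+1)) := by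
  rw [isZero_homology_succ_iff]
  intro x hx
  -- the common-group values of the cocycle
  let T : (Fin (p+2) → ι) → G := fun b => θ (p+1) b (coch U P (p+1) x b)
  -- the cocycle identity in `G`
  have hT : ∀ (v : ι) (a : Fin (p+2) → ι),
      T a = ∑ j : Fin (p+2), (-1 : ℤ)^(j:ℕ) • T (Fin.cons v (a ∘ j.succAbove)) := by
    intro v a
    have h0 : coch U P (p+2) ((K U P).d (p+1) (p+2) x) (Fin.cons v a) = 0 := by
      rw [hx, map_zero]; rfl
    rw [coch_d] at h0
    have h1 := congrArg (θ (p+2) (Fin.cons v a)) h0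
    rw [map_zero, map_sum, Fin.sum_univ_succ] at h1
    simp only [Fin.val_zero, pow_zero, one_smul, Fin.val_succ, map_zsmul, hres] at h1
    have e0 : θ (p+1) ((Fin.cons v a : Fin (p+3) → ι) ∘ (0 : Fin (p+3)).succAbove)
        (coch U P (p+1) x ((Fin.cons v a : Fin (p+3) → ι) ∘ (0 : Fin (p+3)).succAbove)) = T a :=
      congrArg T (cons_comp_succAbove_zero v a)
    have e1 : ∀ j : Fin (p+2),
        θ (p+1) ((Fin.cons v a : Fin (p+3) → ι) ∘ j.succ.succAbove)
          (coch U P (p+1) x ((Fin.cons v a : Fin (p+3) → ι) ∘ j.succ.succAbove)) =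
        T (Fin.cons v (a ∘ j.succAbove)) :=
      fun j => congrArg T (cons_comp_succAbove_succ v a j)
    rw [e0] at h1
    simp only [e1] at h1
    rw [add_eq_zero_iff_eq_neg] at h1
    rw [h1, ← Finset.sum_neg_distrib]
    refine Finset.sum_congr rfl fun j _ => ?_
    rw [pow_succ, mul_neg_one, neg_smul, neg_neg]
  -- the primitive
  let y : Coch U P p := fun a => ∑ v, (hρ p v a (coch U P (p+1) x (Fin.cons v a))).choose
  have hy : ∀ a : Fin (p+1) → ι, θ p a (y a) = ∑ v, ρ v (T (Fin.cons v a)) := by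
    intro a
    change θ p a (∑ v, _) = _
    rw [map_sum]
    refine Finset.sum_congr rfl fun v _ => ?_
    exact (hρ p v a (coch U P (p+1) x (Fin.cons v a))).choose_spec
  refine ⟨(coch U P p).symm y, ?_⟩
  apply coch_ext
  intro a
  apply hinj (p+1) a
  rw [coch_d, map_sum]
  simp only [map_zsmul, hres, AddEquiv.apply_symm_apply, hy]
  have hs : T a = ∑ v, ρ v (T a) := (hsum a (coch U P (p+1) x a)).symm
  change _ = T a
  rw [hs]
  simp only [Finset.smul_sum]
  rw [Finset.sum_comm]
  refine Finset.sum_congr rfl fun v _ => ?_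
  rw [hT v a, map_sum]
  refine Finset.sum_congr rfl fun j _ => ?_
  rw [map_zsmul]

end Groth.Agent.LD.CH
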