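import Groth.Agent.Lib.Lead.Cech.Retract
import Mathlib.GroupTheory.Perm.Sign

/-! # Coordinate projections: the homotopy formula, and alternation of degenerate-free cocycles. -/

universe u
open CategoryTheory Limits Opposite TopologicalSpace

namespace Groth.Agent.LD.CH

section Homotopy

variable {X : TopCat.{u}} {ι : Type u} [Fintype ι] (U : ι → Opens X)
  (P : (Opens X)ᵒᵖ ⥤ AddCommGrpCat.{u}) {G : Type*} [AddCommGroup G]
  (θ : ∀ (n : ℕ) (a : Fin (n+1) → ι), P.obj (op (∏ᶜ (U ∘ a))) →+ G)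

include θ in
/-- **homotopy formula**: for a cocycle `x`, the cochain `∑ v, ρ v x` is a coboundary. -/
theorem exists_primitive_of_projections
    (hres : ∀ (m : ℕ) (b : Fin (m+2) → ι) (i : Fin (m+2))
      (s : P.obj (op (∏ᶜ (U ∘ b ∘ i.succAbove)))),
      θ (m+1) b (P.map (face U b i).op s) = θ m (b ∘ i.succAbove) s)
    (ρ : ι → G →+ G)
    (hρ : ∀ (n : ℕ) (v : ι) (a : Fin (n+1) → ι)
      (y : P.obj (op (∏ᶜ (U ∘ (Fin.cons v a : Fin (n+2) → ι))))),
      ∃ s : P.obj (op (∏ᶜ (U ∘ a))), θ n a s = ρ v (θ (n+1) (Fin.cons v a) y))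
    (p : ℕ) (x : (K U P).X (p+1)) (hx : (K U P).d (p+1) (p+2) x = 0) :
    ∃ y : (K U P).X p, ∀ a : Fin (p+2) → ι,
      θ (p+1) a (coch U P (p+1) ((K U P).d p (p+1) y) a) =
        ∑ v, ρ v (θ (p+1) a (coch U P (p+1) x a)) := by
  let T : (Fin (p+2) → ι) → G := fun b => θ (p+1) b (coch U P (p+1) x b)
  have hT : ∀ (v : ι) (a : Fin (p+2) → ι),
      T a = ∑ j : Fin (p+2), (-1 : ℤ)^(j:ℕ) • T (Fin.cons v (a ∘ j.succAbove)) := by
    intro v a
    have h0 : coch U P (p+2) ((K U P).d (p+1) (p+2) x) (Fin.cons v a) = 0 := by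
      rw [hx, map_zero]; rfl
    rw [coch_d] at h0
    have h1 := congrArg (θ (p+2) (Fin.cons v a)) h0
    rw [map_zero, map_sum, Fin.sum_univ_succ] at h1
    simp only [Fin.val_zero, pow_zero, one_smul, Fin.val_succ, map_zsmul, hres] at h1
    have e0 : θ (p+1) ((Fin.cons v a : Fin (p+3) → ι) ∘ (0 : Fin (p+3)).succAbove)
        (coch U P (p+1) x ((Fin.cons v a : Fin (p+3) → ι) ∘ (0 : Fin (p+3)).succAbove)) = T a :=
      congrArg T (cons_comp_succAbove_zero v a)
    have e1 : ∀ j : Fin (p+2),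
        θ (p+1) ((Fin.cons v a : Fin (p+3) → ι) ∘ j.succ.succAbove)
          (coch U P (p+1) x ((Fin.cons v a : Fin (p+3) → ι) ∘ j.succ.succAbove)) =
        T (Fin.cons v (a ∘ j.succAbove)) :=
      fun j => congrArg T (cons_comp_succAbove_succ v a j)
    rw [e0] at h1
    simp only [e1] at h1
    rw [add_eq_zero_iff_eq_neg] at h1
    rw [h1, ← Finset.sum_neg_distrib]
    refine Finset.sum_congr rfl fun j _ => ?_
    rw [pow_succ, mul_neg_one, neg_smul, neg_neg]
  let y : Coch U P p := fun a => ∑ v, (hρ p v a (coch U P (p+1) x (Fin.cons v a))).choose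
  have hy : ∀ a : Fin (p+1) → ι, θ p a (y a) = ∑ v, ρ v (T (Fin.cons v a)) := by
    intro a
    change θ p a (∑ v, _) = _
    rw [map_sum]
    refine Finset.sum_congr rfl fun v _ => ?_
    exact (hρ p v a (coch U P (p+1) x (Fin.cons v a))).choose_spec
  refine ⟨(coch U P p).symm y, ?_⟩
  intro a
  rw [coch_d, map_sum]
  simp only [map_zsmul, hres, AddEquiv.apply_symm_apply, hy]
  change _ = ∑ v, ρ v (T a)
  simp only [Finset.smul_sum]
  rw [Finset.sum_comm]
  refine Finset.sum_congr rfl fun v _ => ?_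
  rw [hT v a, map_sum]
  refine Finset.sum_congr rfl fun j _ => ?_
  rw [map_zsmul]

end Homotopy

section Alt

lemma val_succAbove {n : ℕ} (j : Fin (n+1)) (k : Fin n) :
    (j.succAbove k).val = if k.val < j.val then k.val else k.val + 1 := by
  unfold Fin.succAbove
  split_ifs with h1 h2 h2
  · rfl
  · exact absurd (Fin.lt_def.1 h1) h2
  · exact absurd (Fin.lt_def.2 h2) h1
  · rfl

variable {ι : Type*} {G : Type*} [AddCommGroup G] (m : ℕ)

/-- the map `(0, …, i, i+1, i, i+2, …)` on natural numbers. -/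
def dupN (i x : ℕ) : ℕ := if x ≤ i + 1 then x else if x = i + 2 then i else x - 1

/-- the map `(0, …, i, i+1, i, i+2, …)`. -/
def dupMap (i : Fin (m+1)) (k : Fin (m+3)) : Fin (m+2) :=
  ⟨dupN i.val k.val, by unfold dupN; split_ifs <;> omega⟩

lemma dupMap_val (i : Fin (m+1)) (k : Fin (m+3)) : (dupMap m i k).val = dupN i.val k.val := rfl

lemma dupMap_comp_two (i : Fin (m+1)) :
    dupMap m i ∘ (⟨i.val + 2, by omega⟩ : Fin (m+3)).succAbove = id := by
  funext k
  apply Fin.ext
  simp only [Function.comp_apply, id]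
  rw [dupMap_val, val_succAbove]
  unfold dupN
  simp only
  split_ifs <;> omega

lemma dupMap_comp_zero (i : Fin (m+1)) :
    dupMap m i ∘ (⟨i.val, by omega⟩ : Fin (m+3)).succAbove =
      Equiv.swap i.castSucc i.succ := by
  funext k
  apply Fin.ext
  simp only [Function.comp_apply]
  rw [Equiv.swap_apply_def, dupMap_val, val_succAbove]
  have hc : (k = i.castSucc) ↔ k.val = i.val := by
    rw [Fin.ext_iff]; rfl
  have hs : (k = i.succ) ↔ k.val = i.val + 1 := by
    rw [Fin.ext_iff]; rfl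
  simp only [hc, hs]
  unfold dupN
  split_ifs <;> (try simp only [Fin.val_succ, Fin.val_castSucc]) <;> omega

lemma dupMap_not_injective (i : Fin (m+1)) (j : Fin (m+3)) (h0 : j.val ≠ i.val)
    (h2 : j.val ≠ i.val + 2) : ¬ Function.Injective (dupMap m i ∘ j.succAbove) := by
  intro hinj
  have hj0 : (⟨i.val, by omega⟩ : Fin (m+3)) ≠ j := fun h => h0 (by rw [← h])
  have hj2 : (⟨i.val + 2, by omega⟩ : Fin (m+3)) ≠ j := fun h => h2 (by rw [← h])
  obtain ⟨k0, hk0⟩ := Fin.exists_succAbove_eq hj0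
  obtain ⟨k2, hk2⟩ := Fin.exists_succAbove_eq hj2
  have : k0 = k2 := by
    apply hinj
    simp only [Function.comp_apply, hk0, hk2]
    apply Fin.ext
    rw [dupMap_val, dupMap_val]
    unfold dupN
    simp
  rw [this, hk2] at hk0
  have := congrArg Fin.val hk0
  simp at this

variable (T : (Fin (m+2) → ι) → G)

/-- **alternation**: a cocycle vanishing on non-injective tuples changes sign under adjacent
transpositions. -/
theorem alternating_of_cocycle
    (hcoc : ∀ b : Fin (m+3) → ι, ∑ j : Fin (m+3), (-1 : ℤ)^(j:ℕ) • T (b ∘ j.succAbove) = 0)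
    (hdeg : ∀ a : Fin (m+2) → ι, ¬ Function.Injective a → T a = 0)
    (a : Fin (m+2) → ι) (i : Fin (m+1)) :
    T (a ∘ Equiv.swap i.castSucc i.succ) = - T a := by
  have h := hcoc (a ∘ dupMap m i)
  rw [Finset.sum_eq_add (⟨i.val, by omega⟩ : Fin (m+3)) (⟨i.val + 2, by omega⟩ : Fin (m+3))
    (by intro h; have := congrArg Fin.val h; simp at this)
    (by
      intro j _ hj
      have h0 : j.val ≠ i.val := fun h => hj.1 (Fin.ext h)
      have h2 : j.val ≠ i.val + 2 := fun h => hj.2 (Fin.ext h)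
      rw [hdeg, smul_zero]
      intro hinj
      apply dupMap_not_injective m i j h0 h2
      intro k k' hk
      apply hinj
      simp only [Function.comp_apply] at hk ⊢
      rw [hk])
    (fun h => absurd (Finset.mem_univ _) h) (fun h => absurd (Finset.mem_univ _) h)] at h
  rw [Function.comp_assoc, Function.comp_assoc, dupMap_comp_zero, dupMap_comp_two,
    Function.comp_id] at h
  simp only at h
  rw [pow_add, show ((-1 : ℤ))^2 = 1 by norm_num, mul_one, ← smul_add] at h
  have h3 := congrArg (fun t => ((-1 : ℤ))^(i.val) • t) h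
  simp only [smul_zero, smul_smul] at h3
  rw [← pow_add, ← two_mul, pow_mul, show ((-1 : ℤ))^2 = 1 by norm_num, one_pow, one_smul] at h3
  exact eq_neg_of_add_eq_zero_left h3

/-- a cocycle vanishing on non-injective tuples and on one tuple vanishes on all its
permutations. -/
theorem eq_zero_of_perm
    (hcoc : ∀ b : Fin (m+3) → ι, ∑ j : Fin (m+3), (-1 : ℤ)^(j:ℕ) • T (b ∘ j.succAbove) = 0)
    (hdeg : ∀ a : Fin (m+2) → ι, ¬ Function.Injective a → T a = 0)
    (τ : Equiv.Perm (Fin (m+2))) : ∀ (a : Fin (m+2) → ι), T a = 0 → T (a ∘ τ) = 0 := by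
  have hτ : τ ∈ Submonoid.closure
      (Set.range fun i : Fin (m+1) => Equiv.swap i.castSucc i.succ) := by
    rw [Equiv.Perm.mclosure_swap_castSucc_succ]
    trivial
  induction hτ using Submonoid.closure_induction with
  | mem τ hτ =>
    obtain ⟨i, rfl⟩ := hτ
    intro a ha
    rw [alternating_of_cocycle m T hcoc hdeg a i, ha, neg_zero]
  | one =>
    intro a ha
    exact ha
  | mul τ₁ τ₂ _ _ h₁ h₂ =>
    intro a ha
    have : a ∘ ⇑(τ₁ * τ₂) = (a ∘ τ₁) ∘ τ₂ := rfl
    rw [this]
    exact h₂ _ (h₁ a ha)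

end Alt

end Groth.Agent.LD.CH
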