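import Groth.Prelude.Def_CechOX
import Groth.Agent.Lib.Lead.Cech.GenA
import Groth.Agent.Lib.Lead.Cech.CompareGen
import Groth.Agent.Lib.Lead.Cech.Compare
import Groth.Agent.Lib.Lead.Cech.Cone
import Groth.Agent.Lib.Lead.QC.EpiLocal
import Groth.Agent.Lib.Lead.QC.BiprodSec
import Groth.Agent.Lib.Lead.QC.Compact
import Groth.Agent.Lib.Lead.QC.Extend
import Groth.Agent.Lib.Lead.QC.SubExt

/-! # The Čech complex of sheaves `𝔠(𝒰, F)` is a resolution of `F`. -/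

set_option autoImplicit false
universe u
open CategoryTheory Limits Opposite TopologicalSpace AlgebraicGeometry

namespace Groth.Agent.LD.CH

/-- vanishing in positive degrees when one member of the family is the whole union. -/
theorem isZero_homology_of_eq_iSup {X : TopCat.{u}} {ι : Type u} (U : ι → Opens X)
    (P : (Opens X)ᵒᵖ ⥤ AddCommGrpCat.{u}) (i : ι) (hi : U i = iSup U) (n : ℕ) :
    IsZero ((K U P).homology (n+1)) := by
  rw [isZero_homology_succ_iff]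
  intro x hx
  refine ⟨hAdd U P i hi n x, ?_⟩
  have h := hAdd_d_succ U P i hi n x
  rwa [hx, map_zero, zero_add] at h

namespace ShRes

variable {X : Scheme.{u}} {ι : Type u} (𝒰 : ι → X.Opens) (F : X.Modules)

/-- sections over `V`. -/
noncomputable abbrev ΓV (V : X.Opens) : X.Modules ⥤ AddCommGrpCat.{u} :=
  Scheme.Modules.toPresheaf X ⋙ (evaluation (X.Opens)ᵒᵖ AddCommGrpCat.{u}).obj (op V)

instance (V : X.Opens) : (ΓV V).Additive where
  map_add := by intros; rfl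

instance (V : X.Opens) : PreservesLimitsOfSize.{u, u} (ΓV V) :=
  haveI : PreservesLimitsOfSize.{u, u} ((evaluation (X.Opens)ᵒᵖ AddCommGrpCat.{u}).obj (op V)) :=
    evaluationPreservesLimits (op V)
  comp_preservesLimits _ _

/-- the family `W ↦ (j_W)_*(F|_W)`. -/
noncomputable abbrev Q : (X.Opens)ᵒᵖ ⥤ X.Modules := CechOX.pushRestrFam.flip.obj F

lemma cechSh_obj : (CechOX.cechSh 𝒰).obj F = KA 𝒰 (Q F) := rfl

/-- `W ↦ V ∩ W`, as Mathlib writes it. -/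
noncomputable def ΦV (V : X.Opens) : X.Opens ⥤ X.Opens where
  obj W := W.ι ''ᵁ (W.ι ⁻¹ᵁ V)
  map {W W'} h := homOfLE (CechOX.image_preimage_mono (leOfHom h) V)
  map_id _ := Subsingleton.elim _ _
  map_comp _ _ := Subsingleton.elim _ _

lemma ΦV_obj (V W : X.Opens) : (ΦV V).obj W = W ⊓ V := by
  change W.ι ''ᵁ (W.ι ⁻¹ᵁ V) = W ⊓ V
  rw [Scheme.Hom.image_preimage_eq_opensRange_inf, Scheme.Opens.opensRange_ι]

/-- sections of the family over `V`, as a presheaf on the opens. -/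
noncomputable def isoP (V : X.Opens) : Q F ⋙ ΓV V ≅ (ΦV V).op ⋙ F.presheaf :=
  NatIso.ofComponents (fun W => Iso.refl (F.presheaf.obj (op ((ΦV V).obj W.unop)))) (fun f =>
    (Category.comp_id _).trans ((show (Q F ⋙ ΓV V).map f = ((ΦV V).op ⋙ F.presheaf).map f from
      rfl).trans (Category.id_comp _).symm))

/-- the untwisted family `V ∩ U_i`. -/
def 𝒲 (V : X.Opens) (i : ι) : X.Opens := V ⊓ 𝒰 i

lemma hΦ (V : X.Opens) (n : ℕ) (a : Fin (n+1) → ι) :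
    (ΦV V).obj (∏ᶜ (𝒰 ∘ a)) = ∏ᶜ (𝒲 𝒰 V ∘ a) := by
  rw [ΦV_obj]
  refine le_antisymm ?_ ?_
  · exact le_prod (X := X.toTopCat) (𝒲 𝒰 V) a _
      (fun k => le_inf inf_le_right (inf_le_left.trans (prod_le (X := X.toTopCat) 𝒰 a k)))
  · exact le_inf (le_prod (X := X.toTopCat) 𝒰 a _
      (fun k => (prod_le (X := X.toTopCat) (𝒲 𝒰 V) a k).trans inf_le_right))
      ((prod_le (X := X.toTopCat) (𝒲 𝒰 V) a 0).trans inf_le_left)

/-- the twisted Čech complex is exact in positive degrees over small opens. -/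
theorem isZero_twisted (V : X.Opens) (i₀ : ι) (hV : V ≤ 𝒰 i₀) (n : ℕ) :
    IsZero ((K 𝒰 (Q F ⋙ ΓV V)).homology (n+1)) := by
  have h1 : IsZero ((K (𝒲 𝒰 V) F.presheaf).homology (n+1)) := by
    apply isZero_homology_of_eq_iSup (X := X.toTopCat) (𝒲 𝒰 V) F.presheaf i₀
    exact le_antisymm (le_iSup (𝒲 𝒰 V) i₀)
      (iSup_le fun i => inf_le_left.trans (le_inf le_rfl hV))
  have h2 : IsZero ((K 𝒰 ((ΦV V).op ⋙ F.presheaf)).homology (n+1)) :=
    isZero_homology_of_gcmp (ΦV V) F.presheaf 𝒰 (𝒲 𝒰 V) (fun n a => eqToIso (hΦ 𝒰 V n a))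
      (fun _ _ _ => Subsingleton.elim _ _) n h1
  exact IsZero.of_iso h2 ((cechComplexFunctor 𝒰 ⋙
    HomologicalComplex.homologyFunctor _ _ (n+1)).mapIso (isoP F V))

/-- local primitives of cocycles in positive degrees. -/
theorem exists_primitive (V : X.Opens) (i₀ : ι) (hV : V ≤ 𝒰 i₀) (n : ℕ)
    (s : Γ((KA 𝒰 (Q F)).X (n+1), V)) (hs : ((KA 𝒰 (Q F)).d (n+1) (n+2)).app V s = 0) :
    ∃ y : Γ((KA 𝒰 (Q F)).X n, V), ((KA 𝒰 (Q F)).d n (n+1)).app V y = s :=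
  exists_preimage_of_isZero 𝒰 (Q F) (ΓV V) n (isZero_twisted 𝒰 F V i₀ hV n) s hs

lemma exists_mem (h𝒰 : ⨆ i, 𝒰 i = ⊤) (x : X) : ∃ i, x ∈ 𝒰 i := by
  have h1 : x ∈ (⨆ i, 𝒰 i : X.Opens) := by rw [h𝒰]; trivial
  exact Opens.mem_iSup.1 h1

/-- exactness of `𝔠(𝒰, F)` in positive degrees. -/
theorem isZero_homology_succ (h𝒰 : ⨆ i, 𝒰 i = ⊤) (p : ℕ) :
    IsZero ((KA 𝒰 (Q F)).homology (p+1)) := by
  rw [← HomologicalComplex.exactAt_iff_isZero_homology,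
    HomologicalComplex.exactAt_iff' _ p (p+1) (p+2) (by simp) (by simp)]
  apply QC.exact_of_local
  intro V t ht x hx
  obtain ⟨i₀, hi₀⟩ := exists_mem 𝒰 h𝒰 x
  have hW : V ⊓ 𝒰 i₀ ≤ V := inf_le_left
  have ht' : ((KA 𝒰 (Q F)).d (p+1) (p+2)).app V t = 0 := ht
  obtain ⟨y, hy⟩ := exists_primitive 𝒰 F (V ⊓ 𝒰 i₀) i₀ inf_le_right p
    (((KA 𝒰 (Q F)).X (p+1)).presheaf.map (homOfLE hW).op t)
    ((QC.app_res ((KA 𝒰 (Q F)).d (p+1) (p+2)) hW t).trans (by rw [ht', map_zero]))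
  exact ⟨V ⊓ 𝒰 i₀, hW, ⟨hx, hi₀⟩, y, hy⟩


end ShRes

end Groth.Agent.LD.CH
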