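import Groth.Agent.Lib.Lead.Cech.ShRes

/-! # The Čech complex of sheaves `𝔠(𝒰, F)` is a resolution of `F`: degree zero. -/

set_option autoImplicit false
universe u
open CategoryTheory Limits Opposite TopologicalSpace AlgebraicGeometry

namespace Groth.Agent.LD.CH

namespace ShRes

variable {X : Scheme.{u}} {ι : Type u} (𝒰 : ι → X.Opens) (F : X.Modules)

/-! ### Degree zero -/

/-- the coaugmentation, typed in `KA`. -/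
noncomputable def aug : F ⟶ (KA 𝒰 (Q F)).X 0 := CechOX.cechShAug 𝒰 F

lemma aug_π (a : Fin 1 → ι) :
    aug 𝒰 F ≫ πA 𝒰 (Q F) 0 a =
      (Scheme.Modules.restrictAdjunction (∏ᶜ (𝒰 ∘ a) : X.Opens).ι).unit.app F :=
  Pi.lift_π _ a

lemma Q_map_app {W W' : X.Opens} (f : W ⟶ W') (V : X.Opens) :
    ((Q F).map f.op).app V =
      F.presheaf.map (homOfLE (CechOX.image_preimage_mono (leOfHom f) V)).op := rfl

lemma unit_map_apply {W W' : X.Opens} (f : W ⟶ W') (V : X.Opens) (r : Γ(F, V)) :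
    ((Q F).map f.op).app V (((Scheme.Modules.restrictAdjunction W'.ι).unit.app F).app V r) =
      ((Scheme.Modules.restrictAdjunction W.ι).unit.app F).app V r := by
  rw [Scheme.Modules.restrictAdjunction_unit_app_app,
    Scheme.Modules.restrictAdjunction_unit_app_app, Q_map_app]
  exact res_res (X := X.toTopCat) F.presheaf _ _ _ r

lemma unit_map {W W' : X.Opens} (f : W ⟶ W') :
    (Scheme.Modules.restrictAdjunction W'.ι).unit.app F ≫ (Q F).map f.op =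
      (Scheme.Modules.restrictAdjunction W.ι).unit.app F := by
  apply Scheme.Modules.hom_ext
  intro V
  exact ConcreteCategory.hom_ext _ _ (fun r => unit_map_apply F f V r)

lemma aug_d : aug 𝒰 F ≫ (KA 𝒰 (Q F)).d 0 1 = 0 := by
  refine homA_ext 𝒰 (Q F) _ _ fun a => ?_
  rw [Category.assoc, zero_comp]
  have e2 : (KA 𝒰 (Q F)).d 0 1 ≫ πA 𝒰 (Q F) 1 a =
      (πA 𝒰 (Q F) 0 (a ∘ Fin.succAbove 0) ≫ (Q F).map (face 𝒰 a 0).op) -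
        (πA 𝒰 (Q F) 0 (a ∘ Fin.succAbove 1) ≫ (Q F).map (face 𝒰 a 1).op) := by
    refine (dA_π 𝒰 (Q F) 0 a).trans ?_
    rw [Fin.sum_univ_two]
    simp [sub_eq_add_neg]
  rw [e2, Preadditive.comp_sub, ← Category.assoc, ← Category.assoc, aug_π, aug_π]
  exact sub_eq_zero.2 ((unit_map F (face 𝒰 a 0)).trans (unit_map F (face 𝒰 a 1)).symm)

lemma π_aug_app (a : Fin 1 → ι) (V : X.Opens) (r : Γ(F, V)) :
    (πA 𝒰 (Q F) 0 a).app V ((aug 𝒰 F).app V r) =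
      F.presheaf.map (homOfLE ((∏ᶜ (𝒰 ∘ a) : X.Opens).ι.image_preimage_le V)).op r := by
  rw [← QC.comp_app', aug_π]
  rfl

lemma aug_app_injective (h𝒰 : ⨆ i, 𝒰 i = ⊤) (V : X.Opens) :
    Function.Injective ((aug 𝒰 F).app V) := by
  intro r r' hrr
  refine QC.section_ext_of_cover F
    (fun a : Fin 1 → ι => (∏ᶜ (𝒰 ∘ a) : X.Opens).ι ''ᵁ ((∏ᶜ (𝒰 ∘ a) : X.Opens).ι ⁻¹ᵁ V))
    (fun a => (∏ᶜ (𝒰 ∘ a) : X.Opens).ι.image_preimage_le V) ?_ r r' ?_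
  · intro x hx
    obtain ⟨i, hi⟩ := exists_mem 𝒰 h𝒰 x
    refine Opens.mem_iSup.2 ⟨fun _ => i, ?_⟩
    rw [Scheme.Hom.image_preimage_eq_opensRange_inf, Scheme.Opens.opensRange_ι]
    exact ⟨le_prod (X := X.toTopCat) 𝒰 (fun _ => i) (𝒰 i) (fun _ => le_rfl) hi, hx⟩
  · intro a
    exact (π_aug_app 𝒰 F a V r).symm.trans
      ((congrArg (fun z => (πA 𝒰 (Q F) 0 a).app V z) hrr).trans (π_aug_app 𝒰 F a V r'))

lemma mono_aug (h𝒰 : ⨆ i, 𝒰 i = ⊤) : Mono (aug 𝒰 F) :=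
  QC.mono_of_injective_app _ (aug_app_injective 𝒰 F h𝒰)

lemma iSup_𝒲 (h𝒰 : ⨆ i, 𝒰 i = ⊤) (V : X.Opens) : iSup (𝒲 𝒰 V) = V := by
  have h1 : (⨆ i, V ⊓ 𝒰 i) = V ⊓ ⨆ i, 𝒰 i := (inf_iSup_eq V 𝒰).symm
  exact h1.trans (by rw [h𝒰, inf_top_eq])

/-- the sheaf of abelian groups underlying `F`. -/
noncomputable abbrev Fsh : Sheaf (Opens.grothendieckTopology X.toTopCat) AddCommGrpCat.{u} :=
  ⟨F.presheaf, F.isSheaf⟩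

lemma cmpInv_zero' (V : X.Opens) :
    cmpInv (ΦV V) F.presheaf 𝒰 (𝒲 𝒰 V) (hΦ 𝒰 V) 1 0 = 0 := by
  apply coch_ext
  intro a
  rw [coch_cmpInv]
  simp

/-- degree-zero cocycles come from sections of `F`. -/
theorem exists_aug_preimage (h𝒰 : ⨆ i, 𝒰 i = ⊤) (V : X.Opens)
    (s : Γ((KA 𝒰 (Q F)).X 0, V)) (hs : ((KA 𝒰 (Q F)).d 0 1).app V s = 0) :
    ∃ r : Γ(F, V), (aug 𝒰 F).app V r = s := by
  obtain ⟨x₁, hx₁def⟩ : ∃ x₁, x₁ = (secIso 𝒰 (Q F) (ΓV V) 0).hom s := ⟨_, rfl⟩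
  have hx₁ : (K 𝒰 (Q F ⋙ ΓV V)).d 0 1 x₁ = 0 := by
    rw [hx₁def]
    exact (secIso_d_apply 𝒰 (Q F) (ΓV V) 0 s).symm.trans
      ((congrArg (fun z => (secIso 𝒰 (Q F) (ΓV V) 1).hom z) hs).trans (map_zero _))
  obtain ⟨φ, hφ⟩ : ∃ φ : K 𝒰 (Q F ⋙ ΓV V) ⟶ K 𝒰 ((ΦV V).op ⋙ F.presheaf),
      φ = (cechComplexFunctor 𝒰).map (isoP F V).hom := ⟨_, rfl⟩
  obtain ⟨x₂, hx₂def⟩ : ∃ x₂, x₂ = φ.f 0 x₁ := ⟨_, rfl⟩
  have hx₂ : (K 𝒰 ((ΦV V).op ⋙ F.presheaf)).d 0 1 x₂ = 0 := by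
    rw [hx₂def]
    exact (ConcreteCategory.congr_hom (φ.comm 0 1) x₁).trans
      ((congrArg (fun z => φ.f 1 z) hx₁).trans (map_zero _))
  obtain ⟨x₃, hx₃def⟩ : ∃ x₃, x₃ = cmpInv (ΦV V) F.presheaf 𝒰 (𝒲 𝒰 V) (hΦ 𝒰 V) 0 x₂ :=
    ⟨_, rfl⟩
  have hx₃ : (K (𝒲 𝒰 V) F.presheaf).d 0 1 x₃ = 0 := by
    rw [hx₃def]
    exact (cmpInv_d (ΦV V) F.presheaf 𝒰 (𝒲 𝒰 V) (hΦ 𝒰 V) 0 x₂).symm.trans
      ((congrArg (fun z => cmpInv (ΦV V) F.presheaf 𝒰 (𝒲 𝒰 V) (hΦ 𝒰 V) 1 z) hx₂).trans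
        (cmpInv_zero' 𝒰 F V))
  obtain ⟨t, ht, -⟩ := existsUnique_of_cocycle (X := X.toTopCat) (𝒲 𝒰 V) (Fsh F) x₃ hx₃
  have hle : V ≤ iSup (𝒲 𝒰 V) := (iSup_𝒲 𝒰 h𝒰 V).ge
  refine ⟨F.presheaf.map (homOfLE hle).op t, ?_⟩
  apply sec_ext 𝒰 (Q F) (ΓV V) 0
  intro a
  have hle2 : (ΦV V).obj (∏ᶜ (𝒰 ∘ a)) ≤ iSup (𝒲 𝒰 V) := by
    rw [ΦV_obj, iSup_𝒲 𝒰 h𝒰 V]
    exact inf_le_right
  have hL : (ΓV V).map (πA 𝒰 (Q F) 0 a) ((aug 𝒰 F).app V (F.presheaf.map (homOfLE hle).op t)) =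
      F.presheaf.map (homOfLE hle2).op t :=
    (π_aug_app 𝒰 F a V _).trans (res_res (X := X.toTopCat) F.presheaf _ _ _ t)
  have h2 : coch 𝒰 ((ΦV V).op ⋙ F.presheaf) 0 x₂ a = coch 𝒰 (Q F ⋙ ΓV V) 0 x₁ a := by
    rw [hx₂def, hφ, coch_map]
    rfl
  have h3 : x₂ = cmp (ΦV V) F.presheaf 𝒰 (𝒲 𝒰 V) (hΦ 𝒰 V) 0 x₃ := by
    rw [hx₃def, cmp_cmpInv]
  have hR : (ΓV V).map (πA 𝒰 (Q F) 0 a) s = F.presheaf.map (homOfLE hle2).op t := by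
    have h4 : (ΓV V).map (πA 𝒰 (Q F) 0 a) s = coch 𝒰 (Q F ⋙ ΓV V) 0 x₁ a := by
      rw [hx₁def, coch_secIso]
    refine h4.trans (h2.symm.trans ?_)
    rw [h3, coch_cmp, ht]
    exact res_res (X := X.toTopCat) F.presheaf _ _ _ t
  exact hL.trans hR.symm

lemma res_self (M : X.Modules) (V : X.Opens) (h : V ≤ V) (t : Γ(M, V)) :
    M.presheaf.map (homOfLE h).op t = t := by
  rw [show homOfLE h = 𝟙 V from rfl]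
  simp

/-- the coaugmentation is a kernel of the first differential. -/
theorem aug_kernel (h𝒰 : ⨆ i, 𝒰 i = ⊤) (G : X.Modules) (g : G ⟶ (KA 𝒰 (Q F)).X 0)
    (hg : g ≫ (KA 𝒰 (Q F)).d 0 1 = 0) : ∃! g' : G ⟶ F, g' ≫ aug 𝒰 F = g := by
  haveI := mono_aug 𝒰 F h𝒰
  have hS : (ShortComplex.mk (aug 𝒰 F) ((KA 𝒰 (Q F)).d 0 1) (aug_d 𝒰 F)).Exact := by
    apply QC.exact_of_local
    intro V t ht x hx
    obtain ⟨r, hr⟩ := exists_aug_preimage 𝒰 F h𝒰 V t ht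
    exact ⟨V, le_rfl, hx, r, hr.trans (res_self _ V le_rfl t).symm⟩
  refine ⟨hS.lift g hg, hS.lift_f g hg, fun g'' hg'' => ?_⟩
  rw [← cancel_mono (aug 𝒰 F), hg'']
  exact (hS.lift_f g hg).symm

/-- **the Čech complex of sheaves is a resolution.** -/
theorem resolution (h𝒰 : ⨆ i, 𝒰 i = ⊤) :
    Mono (CechOX.cechShAug 𝒰 F) ∧
    CechOX.cechShAug 𝒰 F ≫ ((CechOX.cechSh 𝒰).obj F).d 0 1 = 0 ∧
    (∀ (G : X.Modules) (g : G ⟶ ((CechOX.cechSh 𝒰).obj F).X 0),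
      g ≫ ((CechOX.cechSh 𝒰).obj F).d 0 1 = 0 →
      ∃! g' : G ⟶ F, g' ≫ CechOX.cechShAug 𝒰 F = g) ∧
    ∀ p : ℕ, IsZero (((CechOX.cechSh 𝒰).obj F).homology (p + 1)) :=
  ⟨mono_aug 𝒰 F h𝒰, aug_d 𝒰 F, fun G g hg => aug_kernel 𝒰 F h𝒰 G g hg,
    fun p => isZero_homology_succ 𝒰 F h𝒰 p⟩

end ShRes

end Groth.Agent.LD.CH
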