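import Groth.Prelude.Def_CechOX
import Groth.Agent.Lib.Lead.Cech.TopH0
import Groth.Agent.Lib.Lead.SC.Efface
import Groth.Agent.Lib.Lead.QC.SubExtRestrict
import Groth.Agent.Lib.Lead.QC.Push
import Groth.Agent.Lib.Lead.QC.Closure

/-! # Terms of the Čech complex of sheaves are quasi-coherent (separated scheme, affine opens). -/

set_option autoImplicit false
universe u

namespace Groth.Agent.LD.CH
open AlgebraicGeometry CategoryTheory Limits Groth.Agent.LD

/-- a finite product of quasi-coherent modules is quasi-coherent. -/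
lemma qc_pi_of_finite {X : Scheme.{u}} {α : Type u} [Finite α] (f : α → X.Modules)
    (hf : ∀ a, (f a).IsQuasicoherent) : (∏ᶜ f).IsQuasicoherent := by
  obtain ⟨n, ⟨e⟩⟩ := Finite.exists_equiv_fin α
  refine QC.qc_of_iso (Pi.reindex e.symm f) ?_
  exact QC.qc_limit (Discrete.functor (f ∘ e.symm)) (fun j => hf _)

lemma isAffineHom_diag_of_isSeparated {X : Scheme.{u}} [X.IsSeparated] :
    IsAffineHom (pullback.diagonal (terminal.from X)) := inferInstance

lemma isAffineOpen_prod {X : Scheme.{u}} [X.IsSeparated] {ι : Type u}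
    (𝒰 : ι → X.Opens) (h𝒰 : ∀ i, IsAffineOpen (𝒰 i))
    (p : ℕ) (a : Fin (p+1) → ι) : IsAffineOpen (∏ᶜ (𝒰 ∘ a) : X.Opens) := by
  haveI := isAffineHom_diag_of_isSeparated (X := X)
  rw [CH.prod_eq_iInf (X := X.toTopCat) 𝒰 a]
  exact IsAffineOpen.iInf (fun k => h𝒰 (a k))

lemma isAffineHom_ι_of_isSeparated {X : Scheme.{u}} [X.IsSeparated] (W : X.Opens)
    (hW : IsAffineOpen W) : IsAffineHom W.ι := by
  haveI := isAffineHom_diag_of_isSeparated (X := X)
  exact SC.isAffineHom_ι (fun V W hV hW => hV.inf hW) hW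

lemma qc_pushRestr {X : Scheme.{u}} (W : X.Opens) [IsAffineHom W.ι]
    (F : X.Modules) [F.IsQuasicoherent] :
    ((CechOX.pushRestr W).obj F).IsQuasicoherent := by
  have h1 : ((Scheme.Modules.restrictFunctor W.ι).obj F).IsQuasicoherent :=
    QC.qc_restrict W.ι F
  show ((Scheme.Modules.pushforward W.ι).obj
    ((Scheme.Modules.restrictFunctor W.ι).obj F)).IsQuasicoherent
  exact @QC.qc_pushforward _ _ W.ι inferInstance inferInstance
    ((Scheme.Modules.restrictFunctor W.ι).obj F) h1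

/-- the degree-`p` term of the Čech complex of sheaves. -/
lemma qc_cechSh_X {X : Scheme.{u}} [X.IsSeparated] {ι : Type u}
    [Finite ι] (𝒰 : ι → X.Opens) (h𝒰 : ∀ i, IsAffineOpen (𝒰 i))
    (F : X.Modules) [F.IsQuasicoherent] (p : ℕ) :
    (((CechOX.cechSh 𝒰).obj F).X p).IsQuasicoherent := by
  show (∏ᶜ fun (a : Fin (p+1) → ι) => (CechOX.pushRestr (∏ᶜ (𝒰 ∘ a))).obj F).IsQuasicoherent
  apply qc_pi_of_finite
  intro a
  haveI := isAffineHom_ι_of_isSeparated _ (isAffineOpen_prod 𝒰 h𝒰 p a)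
  exact qc_pushRestr _ F

end Groth.Agent.LD.CH
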