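import Groth.Agent.Lib.Lead.Cech.Sheaf
import Mathlib.CategoryTheory.Comma.Over.Basic
import Groth.Prelude.Def_CohCx

/-! # Čech complexes over an object of a site: injective sheaves are Čech-acyclic. -/

universe u
open CategoryTheory Limits Opposite

namespace Groth.Agent.LD.CH

variable {C : Type u} [Category.{u} C] {U : C}

/-- restriction of a presheaf to the slice category. -/
abbrev resOver (U : C) (P : Cᵒᵖ ⥤ AddCommGrpCat.{u}) : (Over U)ᵒᵖ ⥤ AddCommGrpCat.{u} :=
  (Over.forget U).op ⋙ P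

/-- comparison `(coind P)|_{C/U} ⟶ coind (P|_{C/U})`. -/
def coindOverα (P : Cᵒᵖ ⥤ AddCommGrpCat.{u}) :
    resOver U (coind P) ⟶ coind (resOver U P) where
  app d := AddCommGrpCat.ofHom
    { toFun := fun c p => c ⟨p.1.left, p.2.left⟩
      map_zero' := rfl
      map_add' := fun _ _ => rfl }
  naturality d d' g := by
    ext c
    funext p
    rfl

/-- comparison `coind (P|_{C/U}) ⟶ (coind P)|_{C/U}`. -/
def coindOverβ (P : Cᵒᵖ ⥤ AddCommGrpCat.{u}) :
    coind (resOver U P) ⟶ resOver U (coind P) where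
  app d := AddCommGrpCat.ofHom
    { toFun := fun c p => c ⟨Over.mk (p.2 ≫ d.unop.hom), Over.homMk p.2 rfl⟩
      map_zero' := rfl
      map_add' := fun _ _ => rfl }
  naturality d d' g := by
    ext c
    funext p
    change c ⟨Over.mk (p.2 ≫ d'.unop.hom), Over.homMk p.2 rfl ≫ g.unop⟩ =
      c ⟨Over.mk ((p.2 ≫ g.unop.left) ≫ d.unop.hom), Over.homMk (p.2 ≫ g.unop.left) rfl⟩
    have h : (p.2 ≫ g.unop.left) ≫ d.unop.hom = p.2 ≫ d'.unop.hom := by
      rw [Category.assoc]
      exact congrArg (fun t => p.2 ≫ t) (Over.w g.unop)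
    have key : ∀ (φ ψ : p.1 ⟶ U) (hφψ : φ = ψ) (m : Over.mk φ ⟶ d.unop) (m' : Over.mk ψ ⟶ d.unop),
        m.left = m'.left →
        (show P.obj (op p.1) from c ⟨Over.mk φ, m⟩) = (show P.obj (op p.1) from c ⟨Over.mk ψ, m'⟩) := by
      rintro φ ψ rfl m m' hm
      have : m = m' := Over.OverMorphism.ext hm
      rw [this]
    exact (key _ _ h _ _ rfl).symm

lemma coindOverα_β (P : Cᵒᵖ ⥤ AddCommGrpCat.{u}) :
    coindOverα (U := U) P ≫ coindOverβ P = 𝟙 _ := by
  ext d c
  funext p
  rfl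

variable [HasFiniteProducts (Over U)] {ι : Type u} (Y : ι → Over U)

/-- **injective presheaves on `C` are Čech-acyclic for families over `U`.** -/
theorem isZero_homology_over_of_injective (I : Cᵒᵖ ⥤ AddCommGrpCat.{u}) [Injective I] (n : ℕ) :
    IsZero ((K Y (resOver U I)).homology (n+1)) := by
  let ρ := Injective.factorThru (𝟙 I) (coindUnit I)
  have hρ : coindUnit I ≫ ρ = 𝟙 I := Injective.comp_factorThru _ _
  let W := (Functor.whiskeringLeft (Over U)ᵒᵖ Cᵒᵖ AddCommGrpCat.{u}).obj (Over.forget U).op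
  refine isZero_homology_of_retract Y (P := resOver U I) (Q := coind (resOver U I))
    (W.map (coindUnit I) ≫ coindOverα I) (coindOverβ I ≫ W.map ρ) ?_ (n+1)
    (isZero_homology_coind Y (resOver U I) n)
  rw [Category.assoc, ← Category.assoc (coindOverα I), coindOverα_β, Category.id_comp,
    ← W.map_comp, hρ, W.map_id]
  rfl

end Groth.Agent.LD.CH
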