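import Groth.Agent.Lib.Lead.Cech.SiteA

/-! # Čech complexes over an object of a site: short exact sequences. -/

universe u
open CategoryTheory Limits Opposite

namespace Groth.Agent.LD.CH

variable {C : Type u} [Category.{u} C] {J : GrothendieckTopology C}
  [HasSheafify J AddCommGrpCat.{u}] {U : C} [HasFiniteProducts (Over U)] {ι : Type u}
  (Y : ι → Over U)

/-- restriction to the slice, as a functor. -/
abbrev resOverF (U : C) : (Cᵒᵖ ⥤ AddCommGrpCat.{u}) ⥤ ((Over U)ᵒᵖ ⥤ AddCommGrpCat.{u}) :=
  (Functor.whiskeringLeft (Over U)ᵒᵖ Cᵒᵖ AddCommGrpCat.{u}).obj (Over.forget U).op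

variable (J) in
/-- the Čech complex functor on sheaves, for a family over `U`. -/
noncomputable abbrev ΦO : Sheaf J AddCommGrpCat.{u} ⥤ CochainComplex AddCommGrpCat.{u} ℕ :=
  sheafToPresheaf J _ ⋙ resOverF U ⋙ cechComplexFunctor Y

/-- the induced map of Čech complexes. -/
noncomputable abbrev cmap {F G : Sheaf J AddCommGrpCat.{u}} (f : F ⟶ G) :
    K Y (resOver U F.obj) ⟶ K Y (resOver U G.obj) :=
  (cechComplexFunctor Y).map ((resOverF U).map f.hom)

lemma coch_cmap {F G : Sheaf J AddCommGrpCat.{u}} (f : F ⟶ G) (n : ℕ)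
    (x : (K Y (resOver U F.obj)).X n) (a : Fin (n+1) → ι) :
    coch Y (resOver U G.obj) n ((cmap Y f).f n x) a =
      f.hom.app (op (∏ᶜ (Y ∘ a)).left) (coch Y (resOver U F.obj) n x a) :=
  coch_map Y ((resOverF U).map f.hom) n x a

/-- injective sheaves are Čech-acyclic (over `U`). -/
theorem isZero_cechO_of_injective (I : Sheaf J AddCommGrpCat.{u}) [Injective I] (n : ℕ) :
    IsZero ((K Y (resOver U I.obj)).homology (n+1)) := by
  haveI : Injective I.obj := injective_obj J I
  exact isZero_homology_over_of_injective Y I.obj n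

lemma cmap_injective {F G : Sheaf J AddCommGrpCat.{u}} (f : F ⟶ G) [Mono f] (n : ℕ) :
    Function.Injective ((cmap Y f).f n) := by
  intro x x' h
  apply coch_ext
  intro a
  apply app_injective_of_mono f
  have h1 := coch_cmap Y f n x a
  have h2 := coch_cmap Y f n x' a
  exact h1.symm.trans ((congrArg (fun z => coch Y (resOver U G.obj) n z a) h).trans h2)

lemma cmap_exact {S : ShortComplex (Sheaf J AddCommGrpCat.{u})} (hS : S.ShortExact) (n : ℕ)
    (y : (K Y (resOver U S.X₂.obj)).X n) (hy : (cmap Y S.g).f n y = 0) :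
    ∃ x : (K Y (resOver U S.X₁.obj)).X n, (cmap Y S.f).f n x = y := by
  have h1 : ∀ a, ∃ x : S.X₁.obj.obj (op (∏ᶜ (Y ∘ a)).left),
      S.f.hom.app _ x = coch Y (resOver U S.X₂.obj) n y a := by
    intro a
    apply app_exact hS
    have := coch_cmap Y S.g n y a
    rw [← this, hy, map_zero]
    rfl
  choose x hx using h1
  refine ⟨(coch Y (resOver U S.X₁.obj) n).symm x, ?_⟩
  apply coch_ext
  intro a
  have := coch_cmap Y S.f n ((coch Y (resOver U S.X₁.obj) n).symm x) a
  rw [AddEquiv.apply_symm_apply] at this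
  exact this.trans (hx a)

theorem shortExact_cechO {S : ShortComplex (Sheaf J AddCommGrpCat.{u})} (hS : S.ShortExact)
    (hsurj : ∀ (n : ℕ) (a : Fin (n+1) → ι),
      Function.Surjective (S.g.hom.app (op (∏ᶜ (Y ∘ a)).left))) :
    (S.map (ΦO J Y)).ShortExact := by
  haveI := hS.mono_f
  apply HomologicalComplex.shortExact_of_degreewise_shortExact
  intro n
  refine ShortComplex.ShortExact.mk' ?_ ?_ ?_
  · rw [ShortComplex.ab_exact_iff]
    intro y hy
    exact cmap_exact Y hS n y hy
  · rw [AddCommGrpCat.mono_iff_injective]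
    exact cmap_injective Y S.f n
  · rw [AddCommGrpCat.epi_iff_surjective]
    intro z
    have h1 : ∀ a, ∃ y : S.X₂.obj.obj (op (∏ᶜ (Y ∘ a)).left),
        S.g.hom.app _ y = coch Y (resOver U S.X₃.obj) n z a := fun a => hsurj n a _
    choose y hy using h1
    refine ⟨(coch Y (resOver U S.X₂.obj) n).symm y, ?_⟩
    apply coch_ext
    intro a
    have := coch_cmap Y S.g n ((coch Y (resOver U S.X₂.obj) n).symm y) a
    rw [AddEquiv.apply_symm_apply] at this
    exact this.trans (hy a)

end Groth.Agent.LD.CH
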