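import Groth.Agent.Lib.Lead.Cech.SiteSurj

/-! # Cartan's criterion on a site with fibre products. -/

universe u
open CategoryTheory Limits Opposite Abelian

namespace Groth.Agent.LD.CH

variable {C : Type u} [SmallCategory C] [HasPullbacks C] (J : GrothendieckTopology C)

theorem cartanS (B : Set C) (Cov : ∀ (U : C) (ι : Type u), (ι → Over U) → Prop)
    (h1 : ∀ (U : C) (ι : Type u) (Y : ι → Over U), Cov U ι Y → U ∈ B ∧
      Sieve.ofArrows (fun i => (Y i).left) (fun i => (Y i).hom) ∈ J U ∧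
      ∀ (p : ℕ) (a : Fin (p + 1) → ι), (∏ᶜ fun k => Y (a k)).left ∈ B)
    (h2 : ∀ U ∈ B, ∀ T ∈ J U, ∃ (ι : Type u) (Y : ι → Over U), Cov U ι Y ∧
      ∀ i, T.arrows (Y i).hom)
    (p : ℕ) : ∀ (F : Sheaf J AddCommGrpCat.{u})
    (_ : ∀ (U : C) (ι : Type u) (Y : ι → Over U), Cov U ι Y → ∀ p : ℕ,
      IsZero ((K Y (resOver U F.obj)).homology (p + 1)))
    (U : C) (_ : U ∈ B), Subsingleton (Ext (SC.ZU J U) F (p + 1)) := by
  have hsurj : ∀ (F : Sheaf J AddCommGrpCat.{u})
      (_ : ∀ (U : C) (ι : Type u) (Y : ι → Over U), Cov U ι Y → ∀ p : ℕ,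
        IsZero ((K Y (resOver U F.obj)).homology (p + 1))) (U : C) (_ : U ∈ B),
      Function.Surjective ((injSeqS F).g.hom.app (op U)) := by
    intro F h3 U hU
    apply surjective_of_refinementO (injSeqS_shortExact F) U
    intro T hT
    obtain ⟨ι, Y, hCov, hr⟩ := h2 U hU T hT
    exact ⟨ι, Y, hr, (h1 U ι Y hCov).2.1, h3 U ι Y hCov 0⟩
  have hQ : ∀ (F : Sheaf J AddCommGrpCat.{u})
      (_ : ∀ (U : C) (ι : Type u) (Y : ι → Over U), Cov U ι Y → ∀ p : ℕ,
        IsZero ((K Y (resOver U F.obj)).homology (p + 1))),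
      ∀ (U : C) (ι : Type u) (Y : ι → Over U), Cov U ι Y → ∀ p : ℕ,
        IsZero ((K Y (resOver U (injSeqS F).X₃.obj)).homology (p + 1)) := by
    intro F h3 U ι Y hCov p
    have hs : ∀ (n : ℕ) (a : Fin (n+1) → ι),
        Function.Surjective ((injSeqS F).g.hom.app (op (∏ᶜ (Y ∘ a)).left)) := by
      intro n a
      apply hsurj F h3
      exact (h1 U ι Y hCov).2.2 n a
    have hC := shortExact_cechO Y (injSeqS_shortExact F) hs
    have hI : ∀ n, IsZero ((K Y (resOver U (injSeqS F).X₂.obj)).homology (n+1)) :=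
      fun n => isZero_cechO_of_injective Y (injSeqS F).X₂ n
    exact IsZero.of_iso (h3 U ι Y hCov (p+1)) (hC.δIso (p+1) (p+2) rfl (hI p) (hI (p+1)))
  induction p with
  | zero =>
    intro F h3 U hU
    have e := SC.ext1Equiv (injSeqS_shortExact F) U (subsingleton_ext_injectiveS _ _ 0)
    have hs := hsurj F h3 U hU
    haveI : Subsingleton ((injSeqS F).X₃.obj.obj (op U) ⧸
        ((injSeqS F).g.hom.app (op U)).hom.range) := by
      refine ⟨fun a b => ?_⟩
      obtain ⟨a, rfl⟩ := QuotientAddGroup.mk_surjective a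
      obtain ⟨b, rfl⟩ := QuotientAddGroup.mk_surjective b
      rw [QuotientAddGroup.eq]
      obtain ⟨c, hc⟩ := hs (-a + b)
      exact ⟨c, hc⟩
    exact e.symm.toEquiv.subsingleton
  | succ p ih =>
    intro F h3 U hU
    have e2 := SC.extShiftEquiv (injSeqS_shortExact F) (SC.ZU J U) (p+1)
      (subsingleton_ext_injectiveS _ _ p) (subsingleton_ext_injectiveS _ _ (p+1))
    haveI := ih (injSeqS F).X₃ (hQ F h3) U hU
    exact e2.symm.toEquiv.subsingleton

end Groth.Agent.LD.CH
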