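import Groth.Agent.Lib.Lead.Cech.CompareGen
import Groth.Agent.Lib.Lead.Cech.SiteCartan
import Mathlib.CategoryTheory.Limits.Preserves.Shapes.Over
import Mathlib.CategoryTheory.Limits.Constructions.FiniteProductsOfBinaryProducts
import Groth.Prelude.Def_CohSite

/-! # Čech complexes under a continuous functor commuting with fibre products; acyclicity of the
direct image of an injective sheaf. -/

universe u
open CategoryTheory Limits Opposite

namespace Groth.Agent.LD.CH

variable {C D : Type u} [SmallCategory C] [SmallCategory D] [HasPullbacks C] [HasPullbacks D]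
  (u : C ⥤ D) [PreservesLimitsOfShape WalkingCospan u] (U : C)

instance preservesBinaryProducts_overPost :
    PreservesLimitsOfShape (Discrete WalkingPair) (Over.post u (X := U)) := by
  haveI : PreservesLimitsOfShape (WidePullbackShape WalkingPair) u :=
    inferInstanceAs (PreservesLimitsOfShape WalkingCospan u)
  infer_instance

instance preservesTerminal_overPost :
    PreservesLimit (Functor.empty.{0} (Over U)) (Over.post u (X := U)) := by
  apply preservesLimit_of_preserves_limit_cone Over.mkIdTerminal
  apply (isLimitMapConeEmptyConeEquiv _ _).symm _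
  have e : (Over.post u (X := U)).obj (Over.mk (𝟙 U)) ≅ Over.mk (𝟙 (u.obj U)) :=
    Over.isoMk (Iso.refl _) (by
      change 𝟙 _ ≫ 𝟙 _ = u.map (𝟙 U)
      rw [u.map_id, Category.id_comp])
  exact IsTerminal.ofIso Over.mkIdTerminal e.symm

instance preservesFiniteProducts_overPost : PreservesFiniteProducts (Over.post u (X := U)) := by
  haveI : PreservesLimitsOfShape (Discrete.{0} PEmpty) (Over.post u (X := U)) :=
    preservesLimitsOfShape_pempty_of_preservesTerminal _
  exact PreservesFiniteProducts.of_preserves_binary_and_terminal _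

end Groth.Agent.LD.CH

namespace Groth.Agent.LD.CH

variable {C D : Type u} [SmallCategory C] [SmallCategory D] [HasPullbacks C] [HasPullbacks D]
  (u : C ⥤ D) [PreservesLimitsOfShape WalkingCospan u] {U : C} {ι : Type u} (Y : ι → Over U)

/-- the image family. -/
abbrev postFam : ι → Over (u.obj U) := fun i => (Over.post u).obj (Y i)

noncomputable def postIso (n : ℕ) (a : Fin (n+1) → ι) :
    (Over.post u).obj (∏ᶜ (Y ∘ a)) ≅ ∏ᶜ (postFam u Y ∘ a) :=
  PreservesProduct.iso (Over.post u) (Y ∘ a)

lemma postIso_hom_π (n : ℕ) (a : Fin (n+1) → ι) (k : Fin (n+1)) :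
    (postIso u Y n a).hom ≫ Pi.π (postFam u Y ∘ a) k = (Over.post u).map (Pi.π (Y ∘ a) k) := by
  unfold postIso
  rw [PreservesProduct.iso_hom]
  exact piComparison_comp_π _ _ _

lemma postIso_face (n : ℕ) (a : Fin (n+2) → ι) (j : Fin (n+2)) :
    (Over.post u).map (face Y a j) ≫ (postIso u Y n (a ∘ j.succAbove)).hom =
      (postIso u Y (n+1) a).hom ≫ face (postFam u Y) a j := by
  apply Pi.hom_ext
  intro k
  rw [Category.assoc, Category.assoc, postIso_hom_π, face_π, postIso_hom_π, ← Functor.map_comp,
    face_π]

end Groth.Agent.LD.CH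

namespace Groth.Agent.LD.CH

variable {C D : Type u} [SmallCategory C] [SmallCategory D] [HasPullbacks C] [HasPullbacks D]
  (u : C ⥤ D) [PreservesLimitsOfShape WalkingCospan u] {U : C} {ι : Type u} (Y : ι → Over U)

lemma resOver_post (P : Dᵒᵖ ⥤ AddCommGrpCat.{u}) :
    (Over.post u (X := U)).op ⋙ resOver (u.obj U) P = resOver U (u.op ⋙ P) := rfl

theorem isZero_cech_push (P : Dᵒᵖ ⥤ AddCommGrpCat.{u}) (n : ℕ)
    (h : IsZero ((K (postFam u Y) (resOver (u.obj U) P)).homology (n+1))) :
    IsZero ((K Y (resOver U (u.op ⋙ P))).homology (n+1)) :=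
  isZero_homology_of_gcmp (Over.post u) (resOver (u.obj U) P) Y (postFam u Y) (postIso u Y)
    (postIso_face u Y) n h

end Groth.Agent.LD.CH

namespace Groth.Agent.LD.CH

open Abelian

variable {C D : Type u} [SmallCategory C] [SmallCategory D] [HasPullbacks C] [HasPullbacks D]
  (J : GrothendieckTopology C) (K' : GrothendieckTopology D)
  (u : C ⥤ D) [PreservesLimitsOfShape WalkingCospan u] [u.IsContinuous J K']

/-- every covering sieve contains (indeed is generated by) a covering family. -/
lemma exists_family_of_sieve {U : C} (T : Sieve U) (hT : T ∈ J U) :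
    ∃ (ι : Type u) (Y : ι → Over U),
      Sieve.ofArrows (fun i => (Y i).left) (fun i => (Y i).hom) ∈ J U ∧ ∀ i, T.arrows (Y i).hom := by
  refine ⟨Σ V : C, {f : V ⟶ U // T.arrows f}, fun i => Over.mk i.2.1, ?_, fun i => i.2.2⟩
  refine J.superset_covering ?_ hT
  intro V f hf
  exact Sieve.ofArrows_mk (fun i : (Σ V : C, {f : V ⟶ U // T.arrows f}) => (Over.mk i.2.1).left)
    (fun i => (Over.mk i.2.1).hom) ⟨V, f, hf⟩

/-- **the direct image of an injective sheaf along a continuous functor commuting with fibre
products is acyclic on every object.** -/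
theorem subsingleton_ext_push_of_injective (I : Sheaf K' AddCommGrpCat.{u}) [Injective I] (U : C)
    (p : ℕ) :
    Subsingleton (Ext (SC.ZU J U) ((CohSite.push K' J u).obj I) (p + 1)) := by
  refine cartanS J Set.univ
    (fun U ι Y => Sieve.ofArrows (fun i => (Y i).left) (fun i => (Y i).hom) ∈ J U) ?_ ?_ p
    ((CohSite.push K' J u).obj I) ?_ U trivial
  · intro U ι Y hY
    exact ⟨trivial, hY, fun _ _ => trivial⟩
  · intro U _ T hT
    exact exists_family_of_sieve J T hT
  · intro U ι Y _ n
    exact isZero_cech_push u Y I.obj n (isZero_cechO_of_injective (postFam u Y) I n)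

end Groth.Agent.LD.CH
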