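import Groth.Agent.Lib.Lead.Cech.SitePush
import Groth.Agent.Lib.Lead.Cech.CoindPhi

/-! # Acyclicity of the direct image of an injective sheaf along a continuous functor commuting
with fibre products — no fibre products needed on the target site. -/

universe u
open CategoryTheory Limits Opposite Abelian

namespace Groth.Agent.LD.CH

variable {C D : Type u} [SmallCategory C] [SmallCategory D] [HasPullbacks C]
  (u : C ⥤ D) [PreservesLimitsOfShape WalkingCospan u] {U : C} {ι : Type u} (Y : ι → Over U)

/-- injective presheaves on `D`, pulled back along `u`, are Čech-acyclic for families over `U`. -/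
theorem isZero_cech_push_of_injective (I : Dᵒᵖ ⥤ AddCommGrpCat.{u}) [Injective I] (n : ℕ) :
    IsZero ((K Y (resOver U (u.op ⋙ I))).homology (n+1)) := by
  let ρ := Injective.factorThru (𝟙 I) (coindUnit I)
  have hρ : coindUnit I ≫ ρ = 𝟙 I := Injective.comp_factorThru _ _
  let W := (Functor.whiskeringLeft (Over (u.obj U))ᵒᵖ Dᵒᵖ AddCommGrpCat.{u}).obj
    (Over.forget (u.obj U)).op
  let i₀ : resOver (u.obj U) I ⟶ coind (resOver (u.obj U) I) :=
    W.map (coindUnit I) ≫ coindOverα I
  let r₀ : coind (resOver (u.obj U) I) ⟶ resOver (u.obj U) I := coindOverβ I ≫ W.map ρ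
  have h₀ : i₀ ≫ r₀ = 𝟙 _ := by
    change (W.map (coindUnit I) ≫ coindOverα I) ≫ (coindOverβ I ≫ W.map ρ) = 𝟙 _
    rw [Category.assoc, ← Category.assoc (coindOverα I), coindOverα_β, Category.id_comp,
      ← W.map_comp, hρ, W.map_id]
  refine isZero_homology_of_retract Y (P := resOver U (u.op ⋙ I))
    (Q := (Over.post u (X := U)).op ⋙ coind (resOver (u.obj U) I))
    (Functor.whiskerLeft (Over.post u (X := U)).op i₀)
    (Functor.whiskerLeft (Over.post u (X := U)).op r₀) ?_ (n+1)
    (isZero_homology_coindΦ (Over.post u (X := U)) Y (resOver (u.obj U) I) n)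
  change Functor.whiskerLeft (Over.post u (X := U)).op i₀ ≫
    Functor.whiskerLeft (Over.post u (X := U)).op r₀ = 𝟙 ((Over.post u (X := U)).op ⋙ resOver (u.obj U) I)
  rw [← Functor.whiskerLeft_comp, h₀]
  rfl

variable (J : GrothendieckTopology C) (K' : GrothendieckTopology D) [u.IsContinuous J K']

/-- **the direct image of an injective sheaf along a continuous functor commuting with fibre
products is acyclic on every object** (no fibre products needed on the target). -/
theorem subsingleton_ext_push_of_injective' (I : Sheaf K' AddCommGrpCat.{u}) [Injective I] (U : C)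
    (p : ℕ) :
    Subsingleton (Ext (SC.ZU J U) ((CohSite.push K' J u).obj I) (p + 1)) := by
  refine cartanS J Set.univ
    (fun U ι Y => Sieve.ofArrows (fun i => (Y i).left) (fun i => (Y i).hom) ∈ J U) ?_ ?_ p
    ((CohSite.push K' J u).obj I) ?_ U trivial
  · intro U ι Y hY
    exact ⟨trivial, hY, fun _ _ => trivial⟩
  · intro U _ T hT
    exact exists_family_of_sieve J T hT
  · intro U ι Y _ n
    haveI : Injective I.obj := injective_obj K' I
    exact isZero_cech_push_of_injective u Y I.obj n

end Groth.Agent.LD.CH
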