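import Groth.Agent.Lib.Lead.Cech.SiteLeray

/-! # Vanishing of `Ȟ¹` of the kernel implies surjectivity on sections (sites). -/

universe u
open CategoryTheory Limits Opposite Abelian

namespace Groth.Agent.LD.CH

variable {C : Type u} [SmallCategory C] {J : GrothendieckTopology C}
  {U : C} [HasFiniteProducts (Over U)] {ι : Type u} (Y : ι → Over U)

theorem exists_lift_of_cech_oneO {S : ShortComplex (Sheaf J AddCommGrpCat.{u})}
    (hS : S.ShortExact)
    (hY : Sieve.ofArrows (fun i => (Y i).left) (fun i => (Y i).hom) ∈ J U)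
    (hz : IsZero ((K Y (resOver U S.X₁.obj)).homology 1))
    (t : S.X₃.obj.obj (op U)) (y : (K Y (resOver U S.X₂.obj)).X 0)
    (hy : (cmap Y S.g).f 0 y = augHomO Y S.X₃.obj t) :
    ∃ s : S.X₂.obj.obj (op U), S.g.hom.app _ s = t := by
  haveI := hS.mono_f
  let Φf := cmap Y S.f
  let Φg := cmap Y S.g
  have hfg : ∀ n (z : (K Y (resOver U S.X₁.obj)).X n), Φg.f n (Φf.f n z) = 0 := by
    intro n z
    have h0 : Φf ≫ Φg = 0 := by
      change (cechComplexFunctor Y).map _ ≫ (cechComplexFunctor Y).map _ = 0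
      rw [← Functor.map_comp, ← Functor.map_comp]
      have : S.f.hom ≫ S.g.hom = 0 := by
        have := congrArg (fun φ => φ.hom) S.zero
        exact this
      rw [this, Functor.map_zero, Functor.map_zero]
    have h1 : Φf.f n ≫ Φg.f n = 0 := by
      rw [← HomologicalComplex.comp_f, h0]
      rfl
    exact ConcreteCategory.congr_hom h1 z
  have h1 : Φg.f 1 ((K Y (resOver U S.X₂.obj)).d 0 1 y) = 0 := by
    have := ConcreteCategory.congr_hom (Φg.comm 0 1) y
    rw [ConcreteCategory.comp_apply, ConcreteCategory.comp_apply] at this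
    rw [← this]
    change (K Y (resOver U S.X₃.obj)).d 0 1 ((cmap Y S.g).f 0 y) = 0
    rw [hy, d_augHomO]
  obtain ⟨c, hc⟩ := cmap_exact Y hS 1 _ h1
  have hdc : (K Y (resOver U S.X₁.obj)).d 1 2 c = 0 := by
    apply cmap_injective Y S.f 2
    have := ConcreteCategory.congr_hom (Φf.comm 1 2) c
    rw [ConcreteCategory.comp_apply, ConcreteCategory.comp_apply] at this
    rw [map_zero]
    refine this.symm.trans ?_
    change (K Y (resOver U S.X₂.obj)).d 1 2 (Φf.f 1 c) = 0
    rw [show Φf.f 1 c = (K Y (resOver U S.X₂.obj)).d 0 1 y from hc]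
    exact ConcreteCategory.congr_hom ((K Y (resOver U S.X₂.obj)).d_comp_d 0 1 2) y
  obtain ⟨b, hb⟩ := (isZero_homology_succ_iff Y (resOver U S.X₁.obj) 0).1 hz c hdc
  let y' := y - Φf.f 0 b
  have hy' : (K Y (resOver U S.X₂.obj)).d 0 1 y' = 0 := by
    change (K Y (resOver U S.X₂.obj)).d 0 1 (y - Φf.f 0 b) = 0
    rw [map_sub, sub_eq_zero]
    have := ConcreteCategory.congr_hom (Φf.comm 0 1) b
    rw [ConcreteCategory.comp_apply, ConcreteCategory.comp_apply] at this
    rw [this]
    change _ = Φf.f 1 ((K Y (resOver U S.X₁.obj)).d 0 1 b)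
    rw [hb]
    exact hc.symm
  obtain ⟨s, hs, _⟩ := existsUnique_of_cocycleO Y S.X₂ hY y' hy'
  refine ⟨s, ?_⟩
  apply augHomO_injective Y S.X₃ hY
  have hnat := map_augHomO Y S.g.hom s
  refine hnat.symm.trans ?_
  have hs' : augHomO Y S.X₂.obj s = y' := by
    apply (coch Y (resOver U S.X₂.obj) 0).injective
    rw [coch_augHomO, hs]
  rw [hs']
  change Φg.f 0 (y - Φf.f 0 b) = _
  rw [map_sub, hfg, sub_zero]
  exact hy

/-- **Surjectivity on sections** from vanishing of `Ȟ¹` of the kernel on refinements (sites). -/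
theorem surjective_of_refinementO [HasPullbacks C]
    {S : ShortComplex (Sheaf J AddCommGrpCat.{u})} (hS : S.ShortExact) (U : C)
    (h : ∀ T ∈ J U, ∃ (ι : Type u) (Y : ι → Over U), (∀ i, T.arrows (Y i).hom) ∧
      Sieve.ofArrows (fun i => (Y i).left) (fun i => (Y i).hom) ∈ J U ∧
      IsZero ((K Y (resOver U S.X₁.obj)).homology 1)) :
    Function.Surjective (S.g.hom.app (op U)) := by
  intro t
  haveI : Epi S.g := hS.epi_g
  haveI : Sheaf.IsLocallySurjective S.g :=
    (Sheaf.isLocallySurjective_iff_epi' (φ := S.g)).mpr inferInstance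
  have hm := Presheaf.imageSieve_mem J S.g.hom t
  obtain ⟨ι, Y, hT, hY, hz⟩ := h _ hm
  choose s hs using hT
  let y : (K Y (resOver U S.X₂.obj)).X 0 := (coch Y (resOver U S.X₂.obj) 0).symm
    (fun a => S.X₂.obj.map (Pi.π (Y ∘ a) 0).left.op (s (a 0)))
  have hy : (cmap Y S.g).f 0 y = augHomO Y S.X₃.obj t := by
    apply coch_ext
    intro a
    rw [coch_cmap, coch_augHomO, AddEquiv.apply_symm_apply]
    unfold augCO
    have hn := ConcreteCategory.congr_hom (S.g.hom.naturality (Pi.π (Y ∘ a) 0).left.op) (s (a 0))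
    rw [ConcreteCategory.comp_apply, ConcreteCategory.comp_apply] at hn
    refine hn.trans ?_
    refine (congrArg (fun z => S.X₃.obj.map (Pi.π (Y ∘ a) 0).left.op z) (hs (a 0))).trans ?_
    have hw : (Pi.π (Y ∘ a) 0).left ≫ (Y (a 0)).hom = (∏ᶜ (Y ∘ a)).hom := Over.w _
    have e4 : S.X₃.obj.map (Pi.π (Y ∘ a) 0).left.op (S.X₃.obj.map (Y (a 0)).hom.op t) =
        S.X₃.obj.map ((Pi.π (Y ∘ a) 0).left ≫ (Y (a 0)).hom).op t := by
      rw [← ConcreteCategory.comp_apply, ← S.X₃.obj.map_comp, ← op_comp]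
    exact e4.trans (congrArg (fun g : (∏ᶜ (Y ∘ a)).left ⟶ U => S.X₃.obj.map g.op t) hw)
  exact exists_lift_of_cech_oneO Y hS hY hz t y hy

end Groth.Agent.LD.CH
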