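import Groth.Agent.Lib.Lead.Cech.TopH0
import Groth.Prelude.Def_CohTop

/-! # Vanishing of `Ȟ¹` of the kernel implies surjectivity on sections. -/

universe u
open CategoryTheory Limits Opposite TopologicalSpace

namespace Groth.Agent.LD.CH

variable {X : TopCat.{u}} {κ : Type u} (W : κ → Opens X)

local notation "JX" => Opens.grothendieckTopology X

/-- if a section `t` of `X₃` over `⋃ W` lifts to a `0`-cochain of `X₂` and `Ȟ¹(W, X₁) = 0`, then
`t` lifts to a section of `X₂` over `⋃ W`. -/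
theorem exists_lift_of_cech_one {S : ShortComplex (Sheaf JX AddCommGrpCat.{u})}
    (hS : S.ShortExact) (hz : IsZero ((K W S.X₁.obj).homology 1))
    (t : S.X₃.obj.obj (op (iSup W))) (y : (K W S.X₂.obj).X 0)
    (hy : ((cechComplexFunctor W).map S.g.hom).f 0 y = augHom W S.X₃.obj t) :
    ∃ s : S.X₂.obj.obj (op (iSup W)), S.g.hom.app _ s = t := by
  haveI := hS.mono_f
  let Φf := (cechComplexFunctor (A := AddCommGrpCat.{u}) W).map S.f.hom
  let Φg := (cechComplexFunctor (A := AddCommGrpCat.{u}) W).map S.g.hom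
  have hfg : ∀ n (z : (K W S.X₁.obj).X n), Φg.f n (Φf.f n z) = 0 := by
    intro n z
    have h0 : Φf ≫ Φg = 0 := by
      change (cechComplexFunctor W).map S.f.hom ≫ (cechComplexFunctor W).map S.g.hom = 0
      rw [← Functor.map_comp]
      have : S.f.hom ≫ S.g.hom = 0 := by
        have := congrArg (fun φ => φ.hom) S.zero
        exact this
      rw [this, Functor.map_zero]
    have h1 : Φf.f n ≫ Φg.f n = 0 := by
      rw [← HomologicalComplex.comp_f, h0]
      rfl
    exact ConcreteCategory.congr_hom h1 z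
  -- `d y` comes from `X₁`
  have h1 : Φg.f 1 ((K W S.X₂.obj).d 0 1 y) = 0 := by
    have := ConcreteCategory.congr_hom (Φg.comm 0 1) y
    rw [ConcreteCategory.comp_apply, ConcreteCategory.comp_apply] at this
    rw [← this, hy, d_augHom]
  obtain ⟨c, hc⟩ := cechMap_exact W hS 1 _ h1
  -- `c` is a cocycle
  have hdc : (K W S.X₁.obj).d 1 2 c = 0 := by
    apply cechMap_injective W S.f 2
    have := ConcreteCategory.congr_hom (Φf.comm 1 2) c
    rw [ConcreteCategory.comp_apply, ConcreteCategory.comp_apply] at this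
    rw [map_zero]
    refine this.symm.trans ?_
    change (K W S.X₂.obj).d 1 2 (Φf.f 1 c) = 0
    rw [show Φf.f 1 c = (K W S.X₂.obj).d 0 1 y from hc]
    exact ConcreteCategory.congr_hom ((K W S.X₂.obj).d_comp_d 0 1 2) y
  obtain ⟨b, hb⟩ := (isZero_homology_succ_iff W S.X₁.obj 0).1 hz c hdc
  -- the corrected cochain
  let y' := y - Φf.f 0 b
  have hy' : (K W S.X₂.obj).d 0 1 y' = 0 := by
    change (K W S.X₂.obj).d 0 1 (y - Φf.f 0 b) = 0
    rw [map_sub, sub_eq_zero]
    have := ConcreteCategory.congr_hom (Φf.comm 0 1) b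
    rw [ConcreteCategory.comp_apply, ConcreteCategory.comp_apply] at this
    rw [this]
    change _ = Φf.f 1 ((K W S.X₁.obj).d 0 1 b)
    rw [hb]
    exact hc.symm
  obtain ⟨s, hs, _⟩ := existsUnique_of_cocycle W S.X₂ y' hy'
  refine ⟨s, ?_⟩
  apply augHom_injective W S.X₃
  rw [← map_augHom W S.g.hom s]
  have hs' : augHom W S.X₂.obj s = y' := by
    apply (coch W S.X₂.obj 0).injective
    rw [coch_augHom, hs]
  rw [hs']
  change Φg.f 0 (y - Φf.f 0 b) = _
  rw [map_sub, hfg, sub_zero]
  exact hy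

/-- epimorphisms of sheaves are locally surjective (topological form). -/
lemma exists_local_lift {S : ShortComplex (Sheaf JX AddCommGrpCat.{u})} (hS : S.ShortExact)
    (U : Opens X) (t : S.X₃.obj.obj (op U)) (x : X) (hx : x ∈ U) :
    ∃ (V : Opens X) (hV : V ≤ U) (s : S.X₂.obj.obj (op V)), x ∈ V ∧
      S.g.hom.app (op V) s = S.X₃.obj.map (homOfLE hV).op t := by
  haveI : Epi S.g := hS.epi_g
  haveI : Sheaf.IsLocallySurjective S.g :=
    (Sheaf.isLocallySurjective_iff_epi' (φ := S.g)).mpr inferInstance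
  have hm := Presheaf.imageSieve_mem JX S.g.hom t
  obtain ⟨V, f, ⟨s, hs⟩, hxV⟩ := hm x hx
  exact ⟨V, f.le, s, hxV, hs⟩

/-- **Surjectivity on sections** from vanishing of `Ȟ¹` of the kernel on refinements. -/
theorem surjective_of_refinement {S : ShortComplex (Sheaf JX AddCommGrpCat.{u})}
    (hS : S.ShortExact) (U : Opens X)
    (h : ∀ (ι : Type u) (V : ι → Opens X), iSup V = U →
      ∃ (κ : Type u) (W : κ → Opens X) (r : κ → ι), iSup W = U ∧ (∀ k, W k ≤ V (r k)) ∧
        IsZero ((K W S.X₁.obj).homology 1)) :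
    Function.Surjective (S.g.hom.app (op U)) := by
  intro t
  let ι : Type u := {p : Σ V : Opens X, S.X₂.obj.obj (op V) //
    ∃ hV : p.1 ≤ U, S.g.hom.app (op p.1) p.2 = S.X₃.obj.map (homOfLE hV).op t}
  let V : ι → Opens X := fun p => p.1.1
  have hV : iSup V = U := by
    apply le_antisymm
    · exact iSup_le fun p => p.2.choose
    · intro x hx
      obtain ⟨V₀, hV₀, s, hxV, hs⟩ := exists_local_lift hS U t x hx
      rw [Opens.mem_iSup]
      exact ⟨⟨⟨V₀, s⟩, hV₀, hs⟩, hxV⟩
  obtain ⟨κ, W, r, hW, hle, hz⟩ := h ι V hV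
  subst hW
  let y : (K W S.X₂.obj).X 0 := (coch W S.X₂.obj 0).symm
    (fun a => S.X₂.obj.map (homOfLE ((prod_le W a 0).trans (hle (a 0)))).op (r (a 0)).1.2)
  have hy : ((cechComplexFunctor W).map S.g.hom).f 0 y = augHom W S.X₃.obj t := by
    apply coch_ext
    intro a
    rw [coch_map, coch_augHom, AddEquiv.apply_symm_apply]
    unfold augC
    have hn := ConcreteCategory.congr_hom (S.g.hom.naturality
      (homOfLE ((prod_le W a 0).trans (hle (a 0)))).op) (r (a 0)).1.2
    rw [ConcreteCategory.comp_apply, ConcreteCategory.comp_apply] at hn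
    obtain ⟨hV', hs'⟩ := (r (a 0)).2
    refine hn.trans ?_
    rw [hs']
    exact res_res S.X₃.obj _ _ _ t
  exact exists_lift_of_cech_one W hS hz t y hy

end Groth.Agent.LD.CH
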